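import Mathlib

/-!
# Fibre squares of rings with one surjective leg
Topological and scheme-theoretic pushout property of the spectra.
-/

set_option autoImplicit false
universe u

namespace Groth.Agent.PushLib

/-- A fibre square of rings `B' = B ×_A A'` with `A' → A` surjective. -/
structure FibSq (B' B A' A : Type u) [CommRing B'] [CommRing B] [CommRing A'] [CommRing A] where
  u : B' →+* B
  v : B' →+* A'
  q : B →+* A
  p : A' →+* A
  w : ∀ x, q (u x) = p (v x)
  surj : Function.Surjective p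
  inj : ∀ x y, u x = u y → v x = v y → x = y
  lift : ∀ b a, q b = p a → ∃ x, u x = b ∧ v x = a

namespace FibSq

variable {B' B A' A : Type u} [CommRing B'] [CommRing B] [CommRing A'] [CommRing A] (S : FibSq B' B A' A)

theorem u_surjective : Function.Surjective S.u := fun b => by
  obtain ⟨a, ha⟩ := S.surj (S.q b)
  obtain ⟨x, hx, -⟩ := S.lift b a ha.symm
  exact ⟨x, hx⟩

theorem v_comap_mem (Q : PrimeSpectrum A') (j : B') (hj : S.u j = 0) (hjQ : S.v j ∉ Q.asIdeal) (x : A') :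
    x ∈ Q.asIdeal ↔ ∃ y : B', S.v y = S.v j * x ∧ y ∈ (PrimeSpectrum.comap S.v Q).asIdeal := by
  obtain ⟨y, -, hy⟩ := S.lift 0 (S.v j * x) (by rw [map_zero, map_mul, ← S.w, hj, map_zero, zero_mul])
  refine ⟨fun hx => ⟨y, hy, ?_⟩, fun ⟨z, hz, hzQ⟩ => ?_⟩
  · show S.v y ∈ Q.asIdeal; rw [hy]; exact Q.asIdeal.mul_mem_left _ hx
  · exact (Q.isPrime.mem_or_mem (show S.v j * x ∈ Q.asIdeal from hz ▸ hzQ)).resolve_left hjQ

theorem exists_prime_over (P : PrimeSpectrum B') :
    (∃ R : PrimeSpectrum B, PrimeSpectrum.comap S.u R = P) ∨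
      ∃ (Q : PrimeSpectrum A') (j : B'), PrimeSpectrum.comap S.v Q = P ∧ S.u j = 0 ∧ j ∉ P.asIdeal := by
  by_cases h : RingHom.ker S.u ≤ P.asIdeal
  · left
    have : P ∈ Set.range (PrimeSpectrum.comap S.u) := by
      rw [range_comap_of_surjective _ _ S.u_surjective]; exact h
    exact this
  right
  obtain ⟨j, hj, hjP⟩ := Set.not_subset.1 h
  let Q : Ideal A' :=
    { carrier := {x | ∃ y ∈ P.asIdeal, S.v y = S.v j * x}
      add_mem' := by rintro a b ⟨y, hy, hya⟩ ⟨z, hz, hzb⟩; exact ⟨y + z, add_mem hy hz, by rw [map_add, hya, hzb, mul_add]⟩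
      zero_mem' := ⟨0, P.asIdeal.zero_mem, by simp⟩
      smul_mem' := by
        rintro c x ⟨y, hy, hyx⟩
        have hz : ∀ a : A', ∃ z, S.u z = 0 ∧ S.v z = S.v j * a := fun a =>
          S.lift 0 _ (by rw [map_zero, map_mul, ← S.w, hj, map_zero, zero_mul])
        obtain ⟨z, hz0, hzv⟩ := hz (c • x)
        obtain ⟨w, hw0, hwv⟩ := hz c
        refine ⟨z, ?_, hzv⟩
        have : z * j = y * w := S.inj _ _ (by rw [map_mul, map_mul, hz0, hw0, zero_mul, mul_zero]) (by
          rw [map_mul, map_mul, hzv, hyx, hwv, smul_eq_mul]; ring)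
        exact (P.isPrime.mem_or_mem (this ▸ P.asIdeal.mul_mem_right _ hy : z * j ∈ P.asIdeal)).resolve_right hjP }
  have hlift : ∀ a : A', ∃ z, S.u z = 0 ∧ S.v z = S.v j * a := fun a =>
    S.lift 0 _ (by rw [map_zero, map_mul, ← S.w, hj, map_zero, zero_mul])
  have hmem : ∀ (x : A') (z : B'), S.u z = 0 → S.v z = S.v j * x → (x ∈ Q ↔ z ∈ P.asIdeal) := by
    refine fun x z hz hzv => ⟨fun ⟨y, hy, hyx⟩ => ?_, fun h => ⟨z, h, hzv⟩⟩
    have : z * j = y * j := S.inj _ _ (by rw [map_mul, map_mul, hz, hj, zero_mul, mul_zero]) (by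
      rw [map_mul, map_mul, hzv, hyx])
    exact (P.isPrime.mem_or_mem (this ▸ P.asIdeal.mul_mem_right _ hy : z * j ∈ P.asIdeal)).resolve_right hjP
  have hprime : Q.IsPrime := by
    refine ⟨fun ht => hjP ((hmem 1 j hj (mul_one _).symm).1 (ht ▸ Submodule.mem_top)), fun {x y} hxy => ?_⟩
    obtain ⟨a, ha, hav⟩ := hlift x
    obtain ⟨b, hb, hbv⟩ := hlift y
    obtain ⟨c, hc, hcv⟩ := hlift (x * y)
    have : a * b = j * c := S.inj _ _ (by rw [map_mul, map_mul, ha, hj, zero_mul, zero_mul]) (by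
      rw [map_mul, map_mul, hav, hbv, hcv]; ring)
    exact (P.isPrime.mem_or_mem (this.symm ▸ P.asIdeal.mul_mem_left _ ((hmem _ c hc hcv).1 hxy) : a * b ∈ P.asIdeal)).imp
      (hmem x a ha hav).2 (hmem y b hb hbv).2
  refine ⟨⟨Q, hprime⟩, j, PrimeSpectrum.ext (Ideal.ext fun y => ?_), hj, hjP⟩
  refine (hmem (S.v y) (j * y) (by rw [map_mul, hj, zero_mul]) (map_mul _ _ _)).trans ⟨fun h => ?_, P.asIdeal.mul_mem_left _⟩
  exact (P.isPrime.mem_or_mem h).resolve_left hjP

theorem isClosed_of_preimages (C : Set (PrimeSpectrum B')) (h1 : IsClosed (PrimeSpectrum.comap S.u ⁻¹' C))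
    (h2 : IsClosed (PrimeSpectrum.comap S.v ⁻¹' C)) : IsClosed C := by
  obtain ⟨IB, hIB⟩ := (PrimeSpectrum.isClosed_iff_zeroLocus_ideal _).1 h1
  obtain ⟨I, hI⟩ := (PrimeSpectrum.isClosed_iff_zeroLocus_ideal _).1 h2
  suffices C = PrimeSpectrum.zeroLocus (I.radical.comap S.v ⊓ IB.radical.comap S.u : Ideal B') by
    rw [this]; exact PrimeSpectrum.isClosed_zeroLocus _
  have hIB' : ∀ R, PrimeSpectrum.comap S.u R ∈ C ↔ IB ≤ R.asIdeal := fun R => Set.ext_iff.1 hIB R
  have hI' : ∀ Q, PrimeSpectrum.comap S.v Q ∈ C ↔ I ≤ Q.asIdeal := fun Q => Set.ext_iff.1 hI Q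
  ext P
  rcases S.exists_prime_over P with ⟨R, rfl⟩ | ⟨Q, j, rfl, hj, hjP⟩
  · rw [hIB', PrimeSpectrum.mem_zeroLocus]
    refine ⟨fun h x hx => (R.isPrime.isRadical.radical_le_iff.2 h) hx.2, fun h b hb => ?_⟩
    have hqb : S.q b ∈ (I.map S.p).radical := by
      rw [Ideal.radical_eq_sInf]
      refine Ideal.mem_sInf.2 fun {P} ⟨hP, hPp⟩ => ?_
      let P' : PrimeSpectrum A := ⟨P, hPp⟩
      have hPC : PrimeSpectrum.comap S.v (PrimeSpectrum.comap S.p P') ∈ C :=
        (hI' _).2 (Ideal.map_le_iff_le_comap.1 hP)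
      have heq : PrimeSpectrum.comap S.v (PrimeSpectrum.comap S.p P') =
          PrimeSpectrum.comap S.u (PrimeSpectrum.comap S.q P') :=
        PrimeSpectrum.ext (Ideal.ext fun x => by show S.p (S.v x) ∈ P ↔ S.q (S.u x) ∈ P; rw [S.w])
      exact (hIB' _).1 (heq ▸ hPC) hb
    obtain ⟨n, hn⟩ := hqb
    obtain ⟨x, hx, hxn⟩ := (Ideal.mem_map_iff_of_surjective _ S.surj).1 hn
    have hxn' : S.q (b ^ (n + 1)) = S.p (x * (S.surj (S.q b)).choose) := by
      rw [map_pow, map_mul, hxn, (S.surj (S.q b)).choose_spec, pow_succ]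
    obtain ⟨y, hyu, hyv⟩ := S.lift _ _ hxn'
    have hy : y ∈ (I.radical.comap S.v ⊓ IB.radical.comap S.u : Ideal B') :=
      ⟨show S.v y ∈ I.radical from Ideal.le_radical (hyv ▸ I.mul_mem_right _ hx),
        show S.u y ∈ IB.radical from Ideal.le_radical (hyu ▸ Ideal.pow_mem_of_mem _ hb _ n.succ_pos)⟩
    exact R.isPrime.mem_of_pow_mem (n + 1) (hyu ▸ h hy)
  · rw [hI', PrimeSpectrum.mem_zeroLocus]
    refine ⟨fun h x hx => (Q.isPrime.isRadical.radical_le_iff.2 h) hx.1, fun h x hx => ?_⟩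
    obtain ⟨y, hyu, hyv⟩ := S.lift 0 (S.v j * x) (by rw [map_zero, map_mul, ← S.w, hj, map_zero, zero_mul])
    refine (S.v_comap_mem Q j hj hjP x).2 ⟨y, hyv, h ⟨?_, ?_⟩⟩
    · exact show S.v y ∈ I.radical from Ideal.le_radical (hyv ▸ I.mul_mem_left _ hx)
    · show S.u y ∈ IB.radical; rw [hyu]; exact Ideal.zero_mem _

theorem isOpen_of_preimages (U : Set (PrimeSpectrum B')) (h1 : IsOpen (PrimeSpectrum.comap S.u ⁻¹' U))
    (h2 : IsOpen (PrimeSpectrum.comap S.v ⁻¹' U)) : IsOpen U :=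
  isClosed_compl_iff.1 (S.isClosed_of_preimages _ (isClosed_compl_iff.2 h1) (isClosed_compl_iff.2 h2))

theorem comap_eq_cases {R : PrimeSpectrum B} {Q : PrimeSpectrum A'}
    (h : PrimeSpectrum.comap S.u R = PrimeSpectrum.comap S.v Q) :
    ∃ P : PrimeSpectrum A, PrimeSpectrum.comap S.q P = R ∧ PrimeSpectrum.comap S.p P = Q := by
  have hker : RingHom.ker S.p ≤ Q.asIdeal := fun x hx => by
    obtain ⟨y, hyu, hyv⟩ := S.lift 0 x (by rw [map_zero]; exact (hx : S.p x = 0).symm)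
    have : y ∈ (PrimeSpectrum.comap S.u R).asIdeal := by show S.u y ∈ R.asIdeal; rw [hyu]; exact R.asIdeal.zero_mem
    rw [h] at this
    exact hyv ▸ this
  obtain ⟨P, rfl⟩ : Q ∈ Set.range (PrimeSpectrum.comap S.p) := by
    rw [range_comap_of_surjective _ _ S.surj]; exact hker
  refine ⟨P, PrimeSpectrum.ext (Ideal.ext fun b => ?_), rfl⟩
  obtain ⟨a, ha⟩ := S.surj (S.q b)
  obtain ⟨x, rfl, hxv⟩ := S.lift b a ha.symm
  show S.q (S.u x) ∈ P.asIdeal ↔ S.u x ∈ R.asIdeal
  rw [S.w]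
  exact (Ideal.ext_iff.1 (congrArg PrimeSpectrum.asIdeal h) x).symm

section loc

variable (f : B')

/-- the square localized away from `f` -/
noncomputable def loc : FibSq (Localization.Away f) (Localization.Away (S.u f)) (Localization.Away (S.v f))
    (Localization.Away (S.q (S.u f))) where
  u := IsLocalization.Away.map _ _ S.u f
  v := IsLocalization.Away.map _ _ S.v f
  q := IsLocalization.Away.map _ _ S.q (S.u f)
  p := IsLocalization.map (M := Submonoid.powers (S.v f)) (T := Submonoid.powers (S.q (S.u f))) _ S.p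
    (show Submonoid.powers (S.v f) ≤ (Submonoid.powers (S.q (S.u f))).comap S.p from
      Submonoid.powers_le.2 (show S.p (S.v f) ∈ Submonoid.powers (S.q (S.u f)) from S.w f ▸ Submonoid.mem_powers _))
  w x := by
    obtain ⟨⟨a, t⟩, rfl⟩ := IsLocalization.mk'_surjective (Submonoid.powers f) x
    simp only [IsLocalization.Away.map, IsLocalization.map_mk', S.w]
  surj := fun x => by
    obtain ⟨⟨a, ⟨_, n, rfl⟩⟩, rfl⟩ := IsLocalization.mk'_surjective (Submonoid.powers (S.q (S.u f))) x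
    obtain ⟨b, rfl⟩ := S.surj a
    refine ⟨IsLocalization.mk' _ b (⟨S.v f ^ n, n, rfl⟩ : Submonoid.powers (S.v f)), ?_⟩
    rw [IsLocalization.map_mk']
    congr 1; simp [S.w]
  inj := fun x y hu hv => by
    obtain ⟨⟨a, t⟩, rfl⟩ := IsLocalization.mk'_surjective (Submonoid.powers f) x
    obtain ⟨⟨b, s⟩, rfl⟩ := IsLocalization.mk'_surjective (Submonoid.powers f) y
    simp only [IsLocalization.Away.map, IsLocalization.map_mk', IsLocalization.mk'_eq_iff_eq] at hu hv ⊢
    rw [← map_mul, ← map_mul] at hu hv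
    obtain ⟨⟨_, m, rfl⟩, hm⟩ := (IsLocalization.eq_iff_exists (Submonoid.powers (S.u f)) _).1 hu
    obtain ⟨⟨_, n, rfl⟩, hn⟩ := (IsLocalization.eq_iff_exists (Submonoid.powers (S.v f)) _).1 hv
    refine (IsLocalization.eq_iff_exists (Submonoid.powers f) _).2 ⟨⟨f ^ (m + n), m + n, rfl⟩, S.inj _ _ ?_ ?_⟩
    · simp only [map_mul, map_pow, pow_add] at hm ⊢; linear_combination (S.u f ^ n) * hm
    · simp only [map_mul, map_pow, pow_add] at hn ⊢; linear_combination (S.v f ^ m) * hn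
  lift := fun x y h => by
    obtain ⟨⟨a, ⟨_, m, rfl⟩⟩, rfl⟩ := IsLocalization.mk'_surjective (Submonoid.powers (S.u f)) x
    obtain ⟨⟨b, ⟨_, n, rfl⟩⟩, rfl⟩ := IsLocalization.mk'_surjective (Submonoid.powers (S.v f)) y
    simp only [IsLocalization.Away.map, IsLocalization.map_mk', IsLocalization.mk'_eq_iff_eq] at h
    obtain ⟨⟨_, k, rfl⟩, hk⟩ := (IsLocalization.eq_iff_exists (Submonoid.powers (S.q (S.u f))) _).1 h
    simp only [map_pow, ← S.w] at hk
    obtain ⟨z, hz1, hz2⟩ := S.lift (a * S.u f ^ (n + k)) (b * S.v f ^ (m + k)) (by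
      simp only [map_mul, map_pow, ← S.w, pow_add]; linear_combination hk)
    refine ⟨IsLocalization.mk' _ z (⟨f ^ (m + n + k), _, rfl⟩ : Submonoid.powers f), ?_, ?_⟩
    · simp only [IsLocalization.Away.map, IsLocalization.map_mk', IsLocalization.mk'_eq_iff_eq, hz1, map_pow]
      exact congrArg _ (by ring)
    · simp only [IsLocalization.Away.map, IsLocalization.map_mk', IsLocalization.mk'_eq_iff_eq, hz2, map_pow]
      exact congrArg _ (by ring)

@[simp] theorem loc_u (x : B') : (S.loc f).u (algebraMap _ _ x) = algebraMap _ _ (S.u x) :=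
  by simp [loc, IsLocalization.Away.map]

@[simp] theorem loc_v (x : B') : (S.loc f).v (algebraMap _ _ x) = algebraMap _ _ (S.v x) :=
  by simp [loc, IsLocalization.Away.map]

end loc

end FibSq

end Groth.Agent.PushLib
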