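import Mathlib
import Groth.Agent.PushLib.FibSq

/-!
# Ferrand: the spectrum of a fibre square with one surjective leg is a pushout of schemes
-/

set_option autoImplicit false
universe u

open CategoryTheory AlgebraicGeometry Limits

namespace Groth.Agent.PushLib

/-- the inclusion of a basic open -/
noncomputable abbrev awayι (R : Type u) [CommRing R] (f : R) : Spec (.of (Localization.Away f)) ⟶ Spec (.of R) :=
  Spec.map (CommRingCat.ofHom (algebraMap R (Localization.Away f)))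

theorem mem_range_awayι {R : Type u} [CommRing R] (f : R) (x : Spec (.of R)) :
    x ∈ Set.range (awayι R f) ↔ f ∉ x.asIdeal :=
  Set.ext_iff.1 (PrimeSpectrum.localization_away_comap_range (Localization.Away f) f) x

noncomputable abbrev specMap {R R' : Type u} [CommRing R] [CommRing R'] (φ : R →+* R') :
    Spec (.of R') ⟶ Spec (.of R) := Spec.map (CommRingCat.ofHom φ)

namespace FibSq

variable {B' B A' A : Type u} [CommRing B'] [CommRing B] [CommRing A'] [CommRing A] (S : FibSq B' B A' A)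

theorem loc_specMap_u (f : B') :
    specMap (S.loc f).u ≫ awayι B' f = awayι B (S.u f) ≫ specMap S.u := by
  rw [← Spec.map_comp, ← Spec.map_comp]
  congr 1; ext x; exact S.loc_u f x

theorem loc_specMap_v (f : B') :
    specMap (S.loc f).v ≫ awayι B' f = awayι A' (S.v f) ≫ specMap S.v := by
  rw [← Spec.map_comp, ← Spec.map_comp]
  congr 1; ext x; exact S.loc_v f x

/-- ring level universal property -/
theorem exists_ringLift {R : Type u} [CommRing R] (a : R →+* B) (b : R →+* A') (h : ∀ r, S.q (a r) = S.p (b r)) :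
    ∃ φ : R →+* B', S.u.comp φ = a ∧ S.v.comp φ = b := by
  choose φ h1 h2 using fun r => S.lift (a r) (b r) (h r)
  refine ⟨{ toFun := φ, map_one' := ?_, map_mul' := fun x y => ?_, map_zero' := ?_, map_add' := fun x y => ?_ },
    RingHom.ext h1, RingHom.ext h2⟩
  all_goals refine S.inj _ _ ?_ ?_ <;> simp [h1, h2]

/-- morphisms from `Spec B'` to an affine open -/
theorem affine_existsUnique {X : Scheme.{u}} (V : X.Opens) (hV : IsAffineOpen V)
    (a : Spec (.of B) ⟶ X) (b : Spec (.of A') ⟶ X) (hab : specMap S.q ≫ a = specMap S.p ≫ b)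
    (ha : ∀ x, a x ∈ V) (hb : ∀ x, b x ∈ V) :
    ∃! k : Spec (.of B') ⟶ Spec Γ(X, V), (specMap S.u ≫ k) ≫ hV.fromSpec = a ∧ (specMap S.v ≫ k) ≫ hV.fromSpec = b := by
  obtain ⟨la, rfl⟩ : ∃ la, la ≫ hV.fromSpec = a := ⟨_, IsOpenImmersion.lift_fac hV.fromSpec a
    (by rw [hV.range_fromSpec]; rintro _ ⟨x, rfl⟩; exact ha x)⟩
  obtain ⟨lb, rfl⟩ : ∃ lb, lb ≫ hV.fromSpec = b := ⟨_, IsOpenImmersion.lift_fac hV.fromSpec b
    (by rw [hV.range_fromSpec]; rintro _ ⟨x, rfl⟩; exact hb x)⟩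
  rw [← Category.assoc, ← Category.assoc, cancel_mono] at hab
  obtain ⟨α, rfl⟩ := Spec.map_surjective la
  obtain ⟨β, rfl⟩ := Spec.map_surjective lb
  rw [← Spec.map_comp, ← Spec.map_comp] at hab
  have hab' := fun r => DFunLike.congr_fun (congrArg CommRingCat.Hom.hom (Spec.map_injective hab)) r
  obtain ⟨φ, h1, h2⟩ := S.exists_ringLift α.hom β.hom hab'
  refine ⟨Spec.map (CommRingCat.ofHom φ), ⟨?_, ?_⟩, ?_⟩
  · rw [← Spec.map_comp, show CommRingCat.ofHom φ ≫ CommRingCat.ofHom S.u = α from CommRingCat.hom_ext h1]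
  · rw [← Spec.map_comp, show CommRingCat.ofHom φ ≫ CommRingCat.ofHom S.v = β from CommRingCat.hom_ext h2]
  · rintro k ⟨hk1, hk2⟩
    obtain ⟨κ, rfl⟩ := Spec.map_surjective k
    rw [cancel_mono, ← Spec.map_comp] at hk1 hk2
    congr 1
    ext r
    refine S.inj _ _ ?_ ?_
    · exact (DFunLike.congr_fun (congrArg CommRingCat.Hom.hom (Spec.map_injective hk1)) r).trans (RingHom.congr_fun h1 r).symm
    · exact (DFunLike.congr_fun (congrArg CommRingCat.Hom.hom (Spec.map_injective hk2)) r).trans (RingHom.congr_fun h2 r).symm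

theorem spec_w : specMap S.q ≫ specMap S.u = specMap S.p ≫ specMap S.v := by
  rw [← Spec.map_comp, ← Spec.map_comp]; congr 1; ext x; exact S.w x

theorem eq_or_eq (x : Spec (.of B')) :
    (∃ y, specMap S.u y = x) ∨ ∃ y, specMap S.v y = x := by
  rcases S.exists_prime_over x with ⟨R, h⟩ | ⟨Q, j, h, -⟩
  exacts [.inl ⟨R, h⟩, .inr ⟨Q, h⟩]

theorem hom_ext {X : Scheme.{u}} {k k' : Spec (.of B') ⟶ X} (hu : specMap S.u ≫ k = specMap S.u ≫ k')
    (hv : specMap S.v ≫ k = specMap S.v ≫ k') : k = k' := by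
  have htop : ∀ x, k x = k' x := fun x => by
    rcases S.eq_or_eq x with ⟨y, rfl⟩ | ⟨y, rfl⟩
    · simpa using congrArg (fun m : _ ⟶ X => m y) hu
    · simpa using congrArg (fun m : _ ⟶ X => m y) hv
  have hcov : ∀ x : Spec (.of B'), ∃ f : B', f ∉ x.asIdeal ∧ ∃ V : X.Opens, IsAffineOpen V ∧
      ∀ z, k (awayι B' f z) ∈ V := fun x => by
    obtain ⟨V, hV, hxV, -⟩ := exists_isAffineOpen_mem_and_subset (X := X) (x := k x) (U := ⊤) trivial
    obtain ⟨-, ⟨f, rfl⟩, hxf, hfW⟩ := PrimeSpectrum.isTopologicalBasis_basic_opens.exists_subset_of_mem_open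
      (show x ∈ k ⁻¹' (V : Set X) from hxV) (V.2.preimage k.continuous)
    exact ⟨f, hxf, V, hV, fun z => hfW ((mem_range_awayι f _).1 ⟨z, rfl⟩)⟩
  choose f hf V hV hzV using hcov
  let 𝒰 := Scheme.affineOpenCoverOfSpanRangeEqTop (R := CommRingCat.of B') f (by
    by_contra h
    obtain ⟨M, hM, hle⟩ := Ideal.exists_le_maximal _ h
    exact hf ⟨M, hM.isPrime⟩ (hle (Ideal.subset_span ⟨_, rfl⟩)))
  refine Scheme.Cover.hom_ext 𝒰.openCover _ _ fun x => ?_
  show awayι B' (f x) ≫ k = awayι B' (f x) ≫ k'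
  obtain ⟨l, hl⟩ : ∃ l, l ≫ (hV x).fromSpec = awayι B' (f x) ≫ k := ⟨_, IsOpenImmersion.lift_fac (hV x).fromSpec _
    (by rw [(hV x).range_fromSpec]; rintro _ ⟨z, rfl⟩; exact hzV x z)⟩
  obtain ⟨l', hl'⟩ : ∃ l, l ≫ (hV x).fromSpec = awayι B' (f x) ≫ k' := ⟨_, IsOpenImmersion.lift_fac (hV x).fromSpec _
    (by rw [(hV x).range_fromSpec]; rintro _ ⟨z, rfl⟩; exact show k' (awayι B' (f x) z) ∈ V x from htop _ ▸ hzV x z)⟩
  have e := (S.loc (f x)).affine_existsUnique (V x) (hV x)
    (awayι B (S.u (f x)) ≫ specMap S.u ≫ k) (awayι A' (S.v (f x)) ≫ specMap S.v ≫ k)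
    (by
      rw [← Category.assoc (awayι B _), ← loc_specMap_u, ← Category.assoc (awayι A' _), ← loc_specMap_v]
      simp only [← Category.assoc]
      rw [(S.loc (f x)).spec_w])
    (fun z => by
      rw [← Category.assoc, ← loc_specMap_u, Category.assoc]; simpa using hzV x (specMap (S.loc (f x)).u z))
    (fun z => by
      rw [← Category.assoc, ← loc_specMap_v, Category.assoc]; simpa using hzV x (specMap (S.loc (f x)).v z))
  have := e.unique (y₁ := l) (y₂ := l')
    ⟨by rw [Category.assoc, hl, ← Category.assoc, loc_specMap_u, Category.assoc],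
      by rw [Category.assoc, hl, ← Category.assoc, loc_specMap_v, Category.assoc]⟩
    ⟨by rw [Category.assoc, hl', ← Category.assoc, loc_specMap_u, Category.assoc, hu],
      by rw [Category.assoc, hl', ← Category.assoc, loc_specMap_v, Category.assoc, hv]⟩
  rw [← hl, ← hl', this]

section desc

variable {X : Scheme.{u}} (a : Spec (.of B) ⟶ X) (b : Spec (.of A') ⟶ X)

/-- the opens where a descended map lands in `V` -/
def descSet (V : Set X) : Set (PrimeSpectrum B') :=
  PrimeSpectrum.comap S.u '' ((fun R => a R) ⁻¹' V) ∪ PrimeSpectrum.comap S.v '' ((fun Q => b Q) ⁻¹' V)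

variable (hab : specMap S.q ≫ a = specMap S.p ≫ b)
include hab

theorem a_eq_b {R : PrimeSpectrum B} {Q : PrimeSpectrum A'}
    (h : PrimeSpectrum.comap S.u R = PrimeSpectrum.comap S.v Q) : a R = b Q := by
  obtain ⟨P, rfl, rfl⟩ := S.comap_eq_cases h
  exact (by simpa using congrArg (fun m : _ ⟶ X => m P) hab :
    a (specMap S.q P) = b (specMap S.p P))

theorem preimage_u_descSet (V : Set X) : PrimeSpectrum.comap S.u ⁻¹' S.descSet a b V = (fun R => a R) ⁻¹' V := by
  ext R
  refine ⟨?_, fun h => Or.inl ⟨R, h, rfl⟩⟩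
  rintro (⟨R', hR', h⟩ | ⟨Q, hQ, h⟩)
  · exact PrimeSpectrum.comap_injective_of_surjective _ S.u_surjective h ▸ hR'
  · show a R ∈ V; rw [S.a_eq_b a b hab h.symm]; exact hQ

theorem preimage_v_descSet (V : Set X) : PrimeSpectrum.comap S.v ⁻¹' S.descSet a b V = (fun Q => b Q) ⁻¹' V := by
  ext Q
  refine ⟨?_, fun h => Or.inr ⟨Q, h, rfl⟩⟩
  rintro (⟨R, hR, h⟩ | ⟨Q', hQ', h⟩)
  · show b Q ∈ V; rw [← S.a_eq_b a b hab h]; exact hR
  show b Q ∈ V
  by_cases hk : ∃ R, PrimeSpectrum.comap S.u R = PrimeSpectrum.comap S.v Q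
  · obtain ⟨R, hR⟩ := hk
    rw [← S.a_eq_b a b hab hR, S.a_eq_b a b hab (hR.trans h.symm)]; exact hQ'
  rcases S.exists_prime_over (PrimeSpectrum.comap S.v Q) with hR | ⟨-, j, -, hj, hjP⟩
  · exact absurd hR hk
  have : Q = Q' := PrimeSpectrum.ext (Ideal.ext fun x => by
    rw [S.v_comap_mem Q j hj hjP, S.v_comap_mem Q' j hj (show j ∉ (PrimeSpectrum.comap S.v Q').asIdeal from h ▸ hjP), h])
  exact this ▸ hQ'

theorem exists_desc : ∃ k : Spec (.of B') ⟶ X, specMap S.u ≫ k = a ∧ specMap S.v ≫ k = b := by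
  have hcov : ∀ x : Spec (.of B'), ∃ (f : B') (V : X.Opens) (_ : IsAffineOpen V), f ∉ x.asIdeal ∧
      (∀ z, a (awayι B (S.u f) z) ∈ V) ∧ (∀ z, b (awayι A' (S.v f) z) ∈ V) := fun x => by
    obtain ⟨pt, hpt⟩ : ∃ pt : X, ∀ V : Set X, pt ∈ V → x ∈ S.descSet a b V := by
      rcases S.eq_or_eq x with ⟨y, hy⟩ | ⟨y, hy⟩
      · exact ⟨a y, fun V h => Or.inl ⟨y, h, hy⟩⟩
      · exact ⟨b y, fun V h => Or.inr ⟨y, h, hy⟩⟩
    obtain ⟨V, hV, hxV, -⟩ := exists_isAffineOpen_mem_and_subset (X := X) (x := pt) (U := ⊤) trivial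
    obtain ⟨-, ⟨f, rfl⟩, hxf, hfW⟩ := PrimeSpectrum.isTopologicalBasis_basic_opens.exists_subset_of_mem_open
      (hpt V hxV) (S.isOpen_of_preimages _ (by rw [S.preimage_u_descSet a b hab]; exact V.2.preimage a.continuous)
        (by rw [S.preimage_v_descSet a b hab]; exact V.2.preimage b.continuous))
    refine ⟨f, V, hV, hxf, fun z => ?_, fun z => ?_⟩
    · exact (Set.ext_iff.1 (S.preimage_u_descSet a b hab V) _).1 (hfW ((mem_range_awayι (S.u f) _).1 ⟨z, rfl⟩))
    · exact (Set.ext_iff.1 (S.preimage_v_descSet a b hab V) _).1 (hfW ((mem_range_awayι (S.v f) _).1 ⟨z, rfl⟩))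
  choose f V hV hf ha hb using hcov
  let 𝒰 := Scheme.affineOpenCoverOfSpanRangeEqTop (R := CommRingCat.of B') f (by
    by_contra h
    obtain ⟨M, hM, hle⟩ := Ideal.exists_le_maximal _ h
    exact hf ⟨M, hM.isPrime⟩ (hle (Ideal.subset_span ⟨_, rfl⟩)))
  have hsq : ∀ g : B', specMap (S.loc g).q ≫ awayι B (S.u g) ≫ a = specMap (S.loc g).p ≫ awayι A' (S.v g) ≫ b := by
    intro g
    have e1 : specMap (S.loc g).q ≫ awayι B (S.u g) = awayι A (S.q (S.u g)) ≫ specMap S.q := by
      rw [← Spec.map_comp, ← Spec.map_comp]; congr 1; ext z; simp [loc, IsLocalization.Away.map]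
    have e2 : specMap (S.loc g).p ≫ awayι A' (S.v g) = awayι A (S.q (S.u g)) ≫ specMap S.p := by
      rw [← Spec.map_comp, ← Spec.map_comp]; congr 1; ext z; simp [loc]
    rw [← Category.assoc, e1, Category.assoc, hab, ← Category.assoc, ← e2, Category.assoc]
  have hloc : ∀ x, ∃ k : Spec (.of (Localization.Away (f x))) ⟶ X,
      specMap (S.loc (f x)).u ≫ k = awayι B (S.u (f x)) ≫ a ∧ specMap (S.loc (f x)).v ≫ k = awayι A' (S.v (f x)) ≫ b := fun x => by
    obtain ⟨l, ⟨h1, h2⟩, -⟩ := (S.loc (f x)).affine_existsUnique (V x) (hV x) _ _ (hsq (f x))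
      (fun z => by simpa using ha x z) (fun z => by simpa using hb x z)
    exact ⟨l ≫ (hV x).fromSpec, by rw [← Category.assoc, h1], by rw [← Category.assoc, h2]⟩
  choose k hku hkv using hloc
  haveI hιB' : ∀ g : B', IsOpenImmersion (awayι B' g) := fun g => IsOpenImmersion.of_isLocalization g
  haveI hιB : ∀ g : B, IsOpenImmersion (awayι B g) := fun g => IsOpenImmersion.of_isLocalization g
  haveI hιA : ∀ g : A', IsOpenImmersion (awayι A' g) := fun g => IsOpenImmersion.of_isLocalization g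
  have good_u : ∀ x {T : Scheme.{u}} (t₁ : T ⟶ Spec (.of (Localization.Away (f x)))) (t₂ : T ⟶ Spec (.of B)),
      t₁ ≫ awayι B' (f x) = t₂ ≫ specMap S.u → t₁ ≫ k x = t₂ ≫ a := fun x T t₁ t₂ h => by
    obtain ⟨m, rfl⟩ : ∃ m, m ≫ awayι B (S.u (f x)) = t₂ := ⟨_, IsOpenImmersion.lift_fac _ t₂ (by
      rintro _ ⟨z, rfl⟩
      rw [mem_range_awayι]
      have : f x ∉ (specMap S.u (t₂ z)).asIdeal := by
        rw [← mem_range_awayι]
        exact ⟨t₁ z, by simpa using congrArg (fun m : _ ⟶ Spec (CommRingCat.of B') => m z) h⟩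
      exact this)⟩
    have : t₁ = m ≫ specMap (S.loc (f x)).u := by
      rw [← cancel_mono (awayι B' (f x)), h, Category.assoc, Category.assoc, loc_specMap_u]
    rw [this, Category.assoc, hku, Category.assoc]
  have good_v : ∀ x {T : Scheme.{u}} (t₁ : T ⟶ Spec (.of (Localization.Away (f x)))) (t₂ : T ⟶ Spec (.of A')),
      t₁ ≫ awayι B' (f x) = t₂ ≫ specMap S.v → t₁ ≫ k x = t₂ ≫ b := fun x T t₁ t₂ h => by
    obtain ⟨m, rfl⟩ : ∃ m, m ≫ awayι A' (S.v (f x)) = t₂ := ⟨_, IsOpenImmersion.lift_fac _ t₂ (by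
      rintro _ ⟨z, rfl⟩
      rw [mem_range_awayι]
      have : f x ∉ (specMap S.v (t₂ z)).asIdeal := by
        rw [← mem_range_awayι]
        exact ⟨t₁ z, by simpa using congrArg (fun m : _ ⟶ Spec (CommRingCat.of B') => m z) h⟩
      exact this)⟩
    have : t₁ = m ≫ specMap (S.loc (f x)).v := by
      rw [← cancel_mono (awayι B' (f x)), h, Category.assoc, Category.assoc, loc_specMap_v]
    rw [this, Category.assoc, hkv, Category.assoc]
  have hcompat : ∀ x y, pullback.fst (awayι B' (f x)) (awayι B' (f y)) ≫ k x =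
      pullback.snd (awayι B' (f x)) (awayι B' (f y)) ≫ k y := fun x y => by
    let g := f x * f y
    have hrg : ∀ z, awayι B' g z ∈ Set.range (awayι B' (f x)) ∧ awayι B' g z ∈ Set.range (awayι B' (f y)) := fun z => by
      have := (mem_range_awayι g _).1 ⟨z, rfl⟩
      rw [mem_range_awayι, mem_range_awayι]
      exact ⟨fun h => this (Ideal.mul_mem_right _ _ h), fun h => this (Ideal.mul_mem_left _ _ h)⟩
    obtain ⟨m₁, hm₁⟩ : ∃ m, m ≫ awayι B' (f x) = awayι B' g := ⟨_, IsOpenImmersion.lift_fac _ _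
      (Set.range_subset_iff.2 fun z => (hrg z).1)⟩
    obtain ⟨m₂, hm₂⟩ : ∃ m, m ≫ awayι B' (f y) = awayι B' g := ⟨_, IsOpenImmersion.lift_fac _ _
      (Set.range_subset_iff.2 fun z => (hrg z).2)⟩
    let e := pullback.lift m₁ m₂ (hm₁.trans hm₂.symm)
    have he : e ≫ pullback.fst _ _ ≫ awayι B' (f x) = awayι B' g := by rw [← Category.assoc, pullback.lift_fst, hm₁]
    haveI : IsOpenImmersion (e ≫ pullback.fst _ _ ≫ awayι B' (f x)) := by rw [he]; infer_instance
    haveI : IsOpenImmersion e := IsOpenImmersion.of_comp e (pullback.fst _ _ ≫ awayι B' (f x))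
    haveI : IsIso e := by
      rw [isIso_iff_isOpenImmersion_and_surjective]
      refine ⟨inferInstance, ⟨fun z => ?_⟩⟩
      let ι := pullback.fst (awayι B' (f x)) (awayι B' (f y)) ≫ awayι B' (f x)
      obtain ⟨w, hw⟩ : ι z ∈ Set.range (awayι B' g) := by
        rw [mem_range_awayι]
        refine fun h => ((ι z).isPrime.mem_or_mem h).elim ((mem_range_awayι _ _).1 ⟨_, rfl⟩) ((mem_range_awayι _ _).1 ⟨pullback.snd (awayι B' (f x)) (awayι B' (f y)) z, ?_⟩)
        simpa [ι] using congrArg (fun m : _ ⟶ Spec (CommRingCat.of B') => m z)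
          (pullback.condition (f := awayι B' (f x)) (g := awayι B' (f y))).symm
      refine ⟨w, ι.isOpenEmbedding.injective ?_⟩
      rw [← hw, ← he]; rfl
    rw [← cancel_epi e, ← Category.assoc, ← Category.assoc, pullback.lift_fst, pullback.lift_snd]
    refine (S.loc g).hom_ext ?_ ?_
    · rw [← Category.assoc, ← Category.assoc,
        good_u x (specMap (S.loc g).u ≫ m₁) (awayι B (S.u g)) (by rw [Category.assoc, hm₁, loc_specMap_u]),
        good_u y (specMap (S.loc g).u ≫ m₂) (awayι B (S.u g)) (by rw [Category.assoc, hm₂, loc_specMap_u])]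
    · rw [← Category.assoc, ← Category.assoc,
        good_v x (specMap (S.loc g).v ≫ m₁) (awayι A' (S.v g)) (by rw [Category.assoc, hm₁, loc_specMap_v]),
        good_v y (specMap (S.loc g).v ≫ m₂) (awayι A' (S.v g)) (by rw [Category.assoc, hm₂, loc_specMap_v])]
  refine ⟨Scheme.Cover.glueMorphisms 𝒰.openCover k hcompat, ?_, ?_⟩
  · refine Scheme.Cover.hom_ext (𝒰.openCover.pullback₁ (specMap S.u)) _ _ fun x => ?_
    show pullback.fst _ _ ≫ _ = pullback.fst _ _ ≫ a
    rw [← Category.assoc, pullback.condition, Category.assoc, Scheme.Cover.ι_glueMorphisms]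
    exact good_u x _ _ pullback.condition.symm
  · refine Scheme.Cover.hom_ext (𝒰.openCover.pullback₁ (specMap S.v)) _ _ fun x => ?_
    show pullback.fst _ _ ≫ _ = pullback.fst _ _ ≫ b
    rw [← Category.assoc, pullback.condition, Category.assoc, Scheme.Cover.ι_glueMorphisms]
    exact good_v x _ _ pullback.condition.symm

end desc

/-- **Ferrand**: `Spec B'` is the pushout of `Spec B ← Spec A → Spec A'` in schemes. -/
theorem isPushout :
    IsPushout (specMap S.p) (specMap S.q) (specMap S.v) (specMap S.u) := by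
  have w := S.spec_w.symm
  choose d hd hd' using fun s : PushoutCocone (specMap S.p) (specMap S.q) =>
    S.exists_desc s.inr s.inl s.condition.symm
  exact ⟨⟨w⟩, ⟨PushoutCocone.IsColimit.mk w d hd' hd fun s m h1 h2 =>
    S.hom_ext (h2.trans (hd s).symm) (h1.trans (hd' s).symm)⟩⟩

end FibSq

end Groth.Agent.PushLib
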