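import Mathlib
import Groth.Agent.PushLib.SpecPush

/-!
# A square which is a fibre square spectrum on each chart is a pushout
-/

set_option autoImplicit false
universe u

open CategoryTheory AlgebraicGeometry Limits

namespace Groth.Agent.PushLib

variable {Z X Y P : Scheme.{u}} (i : Z ⟶ X) (j : Z ⟶ Y) (a : X ⟶ P) (b : Y ⟶ P)

/-- a chart of a square given by a fibre square of rings -/
structure Chart where
  Q' : Type u
  B : Type u
  A' : Type u
  A : Type u
  [cQ : CommRing Q']
  [cB : CommRing B]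
  [cA' : CommRing A']
  [cA : CommRing A]
  S : FibSq Q' B A' A
  κ : Spec (.of Q') ⟶ P
  κY : Spec (.of B) ⟶ Y
  κX : Spec (.of A') ⟶ X
  κZ : Spec (.of A) ⟶ Z
  openκ : IsOpenImmersion κ
  pbY : IsPullback (specMap S.u) κY κ b
  pbX : IsPullback (specMap S.v) κX κ a
  hp : specMap S.p ≫ κX = κZ ≫ i
  hq : specMap S.q ≫ κY = κZ ≫ j

attribute [instance] Chart.cQ Chart.cB Chart.cA' Chart.cA Chart.openκ

variable {i j a b}

theorem isPushout_of_charts (w : i ≫ a = j ≫ b)
    (hc : ∀ x : P, ∃ C : Chart i j a b, x ∈ Set.range C.κ) : IsPushout i j a b := by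
  choose C hC using hc
  let 𝒰 : P.OpenCover := Scheme.Cover.mkOfCovers P (fun x => Spec (.of (C x).Q')) (fun x => (C x).κ)
    (fun x => ⟨x, hC x⟩) (fun x => (C x).openκ)
  have hext : ∀ (T : Scheme.{u}) (K K' : P ⟶ T), a ≫ K = a ≫ K' → b ≫ K = b ≫ K' → K = K' := by
    intro T K K' h1 h2
    refine Scheme.Cover.hom_ext 𝒰 _ _ fun x => (C x).S.hom_ext ?_ ?_
    · show specMap (C x).S.u ≫ (C x).κ ≫ K = specMap (C x).S.u ≫ (C x).κ ≫ K'
      rw [← Category.assoc, (C x).pbY.w, Category.assoc, h2, ← Category.assoc, ← (C x).pbY.w, Category.assoc]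
    · show specMap (C x).S.v ≫ (C x).κ ≫ K = specMap (C x).S.v ≫ (C x).κ ≫ K'
      rw [← Category.assoc, (C x).pbX.w, Category.assoc, h1, ← Category.assoc, ← (C x).pbX.w, Category.assoc]
  have hdesc : ∀ (T : Scheme.{u}) (c : X ⟶ T) (d : Y ⟶ T), i ≫ c = j ≫ d → ∃ K, a ≫ K = c ∧ b ≫ K = d := by
    intro T c d hcd
    have hk : ∀ x, ∃ k : Spec (.of (C x).Q') ⟶ T, specMap (C x).S.u ≫ k = (C x).κY ≫ d ∧
        specMap (C x).S.v ≫ k = (C x).κX ≫ c := fun x => (C x).S.exists_desc _ _ (by
      rw [← Category.assoc, (C x).hq, ← Category.assoc, (C x).hp, Category.assoc, Category.assoc, hcd])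
    choose k hku hkv using hk
    have good_u : ∀ x {W : Scheme.{u}} (t₁ : W ⟶ Spec (.of (C x).Q')) (t₂ : W ⟶ Y),
        t₁ ≫ (C x).κ = t₂ ≫ b → t₁ ≫ k x = t₂ ≫ d := fun x W t₁ t₂ h => by
      have h1 := (C x).pbY.lift_fst t₁ t₂ h
      have h2 := (C x).pbY.lift_snd t₁ t₂ h
      conv_lhs => rw [← h1, Category.assoc, hku]
      rw [← Category.assoc, h2]
    have good_v : ∀ x {W : Scheme.{u}} (t₁ : W ⟶ Spec (.of (C x).Q')) (t₂ : W ⟶ X),
        t₁ ≫ (C x).κ = t₂ ≫ a → t₁ ≫ k x = t₂ ≫ c := fun x W t₁ t₂ h => by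
      have h1 := (C x).pbX.lift_fst t₁ t₂ h
      have h2 := (C x).pbX.lift_snd t₁ t₂ h
      conv_lhs => rw [← h1, Category.assoc, hkv]
      rw [← Category.assoc, h2]
    have hcompat : ∀ x y, pullback.fst (C x).κ (C y).κ ≫ k x = pullback.snd (C x).κ (C y).κ ≫ k y := by
      intro x y
      have hb : ∀ z, ∃ f : (C x).Q', pullback.fst (C x).κ (C y).κ z ∈ Set.range (awayι _ f) ∧
          ∀ z', (C x).κ (awayι _ f z') ∈ Set.range (C y).κ := fun z => by
        obtain ⟨-, ⟨f, rfl⟩, hzf, hsub⟩ := PrimeSpectrum.isTopologicalBasis_basic_opens.exists_subset_of_mem_open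
          (show pullback.fst (C x).κ (C y).κ z ∈ (C x).κ ⁻¹' Set.range (C y).κ from
            ⟨pullback.snd (C x).κ (C y).κ z,
              (congrArg (fun m : _ ⟶ P => m z) (pullback.condition (f := (C x).κ) (g := (C y).κ))).symm⟩)
          ((C y).κ.isOpenEmbedding.isOpen_range.preimage (C x).κ.continuous)
        exact ⟨f, (mem_range_awayι f _).2 hzf, fun z' => hsub ((mem_range_awayι f _).1 ⟨z', rfl⟩)⟩
      choose f hf hfy using hb
      haveI hι : ∀ g : (C x).Q', IsOpenImmersion (awayι _ g) := fun g => IsOpenImmersion.of_isLocalization g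
      let m : ∀ z, Spec (.of (Localization.Away (f z))) ⟶ Spec (.of (C y).Q') := fun z =>
        IsOpenImmersion.lift (C y).κ (awayι _ (f z) ≫ (C x).κ) (Set.range_subset_iff.2 (hfy z))
      have hm : ∀ z, m z ≫ (C y).κ = awayι _ (f z) ≫ (C x).κ := fun z => IsOpenImmersion.lift_fac _ _ _
      let e : ∀ z, Spec (.of (Localization.Away (f z))) ⟶ pullback (C x).κ (C y).κ := fun z =>
        pullback.lift (awayι _ (f z)) (m z) (hm z).symm
      let 𝒱 : (pullback (C x).κ (C y).κ).OpenCover :=
        Scheme.Cover.mkOfCovers _ (fun z => Spec (.of (Localization.Away (f z)))) e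
          (fun z => by
            obtain ⟨z', hz'⟩ := hf z
            refine ⟨z, z', (pullback.fst (C x).κ (C y).κ).isOpenEmbedding.injective ?_⟩
            show (e z ≫ pullback.fst _ _) z' = _
            rw [pullback.lift_fst]; exact hz')
          (fun z => by
            haveI : IsOpenImmersion (e z ≫ pullback.fst (C x).κ (C y).κ) := by
              rw [pullback.lift_fst]; infer_instance
            exact IsOpenImmersion.of_comp (e z) (pullback.fst (C x).κ (C y).κ))
      refine Scheme.Cover.hom_ext 𝒱 _ _ fun z => ?_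
      show e z ≫ _ = e z ≫ _
      rw [← Category.assoc, ← Category.assoc, pullback.lift_fst, pullback.lift_snd]
      refine ((C x).S.loc (f z)).hom_ext ?_ ?_
      · rw [← Category.assoc, FibSq.loc_specMap_u, Category.assoc, hku, ← Category.assoc _ (m z), good_u y
          (specMap ((C x).S.loc (f z)).u ≫ m z) (awayι _ ((C x).S.u (f z)) ≫ (C x).κY) (by
            rw [Category.assoc, hm, ← Category.assoc, FibSq.loc_specMap_u, Category.assoc, (C x).pbY.w, Category.assoc]),
          Category.assoc]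
      · rw [← Category.assoc, FibSq.loc_specMap_v, Category.assoc, hkv, ← Category.assoc _ (m z), good_v y
          (specMap ((C x).S.loc (f z)).v ≫ m z) (awayι _ ((C x).S.v (f z)) ≫ (C x).κX) (by
            rw [Category.assoc, hm, ← Category.assoc, FibSq.loc_specMap_v, Category.assoc, (C x).pbX.w, Category.assoc]),
          Category.assoc]
    refine ⟨Scheme.Cover.glueMorphisms 𝒰 k hcompat, ?_, ?_⟩
    · refine Scheme.Cover.hom_ext (𝒰.pullback₁ a) _ _ fun x => ?_
      show pullback.fst _ _ ≫ _ = pullback.fst _ _ ≫ c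
      rw [← Category.assoc, pullback.condition, Category.assoc, Scheme.Cover.ι_glueMorphisms]
      exact good_v x _ _ pullback.condition.symm
    · refine Scheme.Cover.hom_ext (𝒰.pullback₁ b) _ _ fun x => ?_
      show pullback.fst _ _ ≫ _ = pullback.fst _ _ ≫ d
      rw [← Category.assoc, pullback.condition, Category.assoc, Scheme.Cover.ι_glueMorphisms]
      exact good_u x _ _ pullback.condition.symm
  choose d hd hd' using fun s : PushoutCocone i j => hdesc s.pt s.inl s.inr s.condition
  exact ⟨⟨w⟩, ⟨PushoutCocone.IsColimit.mk w d hd hd' fun s m h1 h2 =>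
    hext _ _ _ (h1.trans (hd s).symm) (h2.trans (hd' s).symm)⟩⟩

end Groth.Agent.PushLib
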