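import Mathlib
import Groth.Agent.PushLib.SpecPush

/-!
# Morphisms of fibre squares with open immersions as components
-/

set_option autoImplicit false
universe u

open CategoryTheory AlgebraicGeometry Limits

namespace Groth.Agent.PushLib

variable {B' B A' A : Type u} [CommRing B'] [CommRing B] [CommRing A'] [CommRing A]
variable {C' C D' D : Type u} [CommRing C'] [CommRing C] [CommRing D'] [CommRing D]

/-- a morphism of fibre squares -/
structure SqHom (S : FibSq B' B A' A) (T : FibSq C' C D' D) where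
  φ' : B' →+* C'
  φB : B →+* C
  φA' : A' →+* D'
  φA : A →+* D
  hu : ∀ x, T.u (φ' x) = φB (S.u x)
  hv : ∀ x, T.v (φ' x) = φA' (S.v x)
  hq : ∀ x, T.q (φB x) = φA (S.q x)
  hp : ∀ x, T.p (φA' x) = φA (S.p x)

namespace FibSq

variable (S : FibSq B' B A' A)

theorem preimage_u_union (VB : Set (PrimeSpectrum B)) (VA : Set (PrimeSpectrum A'))
    (h : ∀ P : PrimeSpectrum A, PrimeSpectrum.comap S.q P ∈ VB ↔ PrimeSpectrum.comap S.p P ∈ VA) :
    PrimeSpectrum.comap S.u ⁻¹' (PrimeSpectrum.comap S.u '' VB ∪ PrimeSpectrum.comap S.v '' VA) = VB := by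
  ext R
  refine ⟨?_, fun hR => Or.inl ⟨R, hR, rfl⟩⟩
  rintro (⟨R', hR', e⟩ | ⟨Q, hQ, e⟩)
  · exact PrimeSpectrum.comap_injective_of_surjective _ S.u_surjective e ▸ hR'
  · obtain ⟨P, rfl, rfl⟩ := S.comap_eq_cases e.symm
    exact (h P).2 hQ

theorem preimage_v_union (VB : Set (PrimeSpectrum B)) (VA : Set (PrimeSpectrum A'))
    (h : ∀ P : PrimeSpectrum A, PrimeSpectrum.comap S.q P ∈ VB ↔ PrimeSpectrum.comap S.p P ∈ VA) :
    PrimeSpectrum.comap S.v ⁻¹' (PrimeSpectrum.comap S.u '' VB ∪ PrimeSpectrum.comap S.v '' VA) = VA := by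
  ext Q
  refine ⟨?_, fun hQ => Or.inr ⟨Q, hQ, rfl⟩⟩
  rintro (⟨R, hR, e⟩ | ⟨Q', hQ', e⟩)
  · obtain ⟨P, rfl, rfl⟩ := S.comap_eq_cases e
    exact (h P).1 hR
  by_cases hk : ∃ R, PrimeSpectrum.comap S.u R = PrimeSpectrum.comap S.v Q
  · obtain ⟨R, hR⟩ := hk
    obtain ⟨P, rfl, rfl⟩ := S.comap_eq_cases hR
    obtain ⟨P', hP'q, rfl⟩ := S.comap_eq_cases (hR.trans e.symm)
    exact (h P).1 (hP'q ▸ (h P').2 hQ')
  rcases S.exists_prime_over (PrimeSpectrum.comap S.v Q) with hR | ⟨-, j, -, hj, hjP⟩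
  · exact absurd hR hk
  have : Q = Q' := PrimeSpectrum.ext (Ideal.ext fun x => by
    rw [S.v_comap_mem Q j hj hjP, S.v_comap_mem Q' j hj (show j ∉ (PrimeSpectrum.comap S.v Q').asIdeal from e ▸ hjP), e])
  exact this ▸ hQ'

end FibSq

namespace SqHom

variable {S : FibSq B' B A' A} {T : FibSq C' C D' D} (h : SqHom S T)

theorem specMap_u : specMap T.u ≫ specMap h.φ' = specMap h.φB ≫ specMap S.u := by
  rw [← Spec.map_comp, ← Spec.map_comp]; congr 1; ext x; exact h.hu x

theorem specMap_v : specMap T.v ≫ specMap h.φ' = specMap h.φA' ≫ specMap S.v := by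
  rw [← Spec.map_comp, ← Spec.map_comp]; congr 1; ext x; exact h.hv x

theorem specMap_q : specMap T.q ≫ specMap h.φB = specMap h.φA ≫ specMap S.q := by
  rw [← Spec.map_comp, ← Spec.map_comp]; congr 1; ext x; exact h.hq x

theorem specMap_p : specMap T.p ≫ specMap h.φA' = specMap h.φA ≫ specMap S.p := by
  rw [← Spec.map_comp, ← Spec.map_comp]; congr 1; ext x; exact h.hp x

/-- hypotheses: the components are open immersions with compatible ranges -/
structure IsOpen : Prop where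
  openB : IsOpenImmersion (specMap h.φB)
  openA' : IsOpenImmersion (specMap h.φA')
  openA : IsOpenImmersion (specMap h.φA)
  rangeB : ∀ P : Spec (.of A), P ∈ Set.range (specMap h.φA) ↔ specMap S.q P ∈ Set.range (specMap h.φB)
  rangeA' : ∀ P : Spec (.of A), P ∈ Set.range (specMap h.φA) ↔ specMap S.p P ∈ Set.range (specMap h.φA')

/-- the image of the map of pushouts -/
def W : Set (Spec (.of B')) :=
  PrimeSpectrum.comap S.u '' Set.range (specMap h.φB) ∪ PrimeSpectrum.comap S.v '' Set.range (specMap h.φA')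

variable {h} (ho : h.IsOpen)
include ho

theorem preimage_u_W : PrimeSpectrum.comap S.u ⁻¹' h.W = Set.range (specMap h.φB) :=
  S.preimage_u_union _ _ fun P => (ho.rangeB P).symm.trans (ho.rangeA' P)

theorem preimage_v_W : PrimeSpectrum.comap S.v ⁻¹' h.W = Set.range (specMap h.φA') :=
  S.preimage_v_union _ _ fun P => (ho.rangeB P).symm.trans (ho.rangeA' P)

theorem isOpen_W : _root_.IsOpen h.W :=
  S.isOpen_of_preimages _ (by rw [preimage_u_W ho]; exact ho.openB.base_open.isOpen_range)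
    (by rw [preimage_v_W ho]; exact ho.openA'.base_open.isOpen_range)

omit ho in
theorem range_subset_W : Set.range (specMap h.φ') ⊆ h.W := by
  rintro _ ⟨z, rfl⟩
  rcases T.eq_or_eq z with ⟨y, rfl⟩ | ⟨y, rfl⟩
  · refine Or.inl ⟨specMap h.φB y, ⟨y, rfl⟩, ?_⟩
    exact congrArg (fun m : _ ⟶ Spec (CommRingCat.of B') => m y) h.specMap_u.symm
  · refine Or.inr ⟨specMap h.φA' y, ⟨y, rfl⟩, ?_⟩
    exact congrArg (fun m : _ ⟶ Spec (CommRingCat.of B') => m y) h.specMap_v.symm

omit ho in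
theorem W_subset_range : h.W ⊆ Set.range (specMap h.φ') := by
  rintro x (⟨_, ⟨y, rfl⟩, rfl⟩ | ⟨_, ⟨y, rfl⟩, rfl⟩)
  · exact ⟨specMap T.u y, congrArg (fun m : _ ⟶ Spec (CommRingCat.of B') => m y) h.specMap_u⟩
  · exact ⟨specMap T.v y, congrArg (fun m : _ ⟶ Spec (CommRingCat.of B') => m y) h.specMap_v⟩

omit ho in
theorem range_eq : Set.range (specMap h.φ') = h.W := range_subset_W.antisymm W_subset_range

theorem exists_local_iso (f : B') (hf : Set.range (awayι B' f) ⊆ h.W) :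
    ∃ k : Spec (.of (Localization.Away (h.φ' f))) ⟶ Spec (.of (Localization.Away f)),
      IsIso k ∧ k ≫ awayι B' f = awayι C' (h.φ' f) ≫ specMap h.φ' := by
  haveI := ho.openB; haveI := ho.openA'; haveI := ho.openA
  haveI hι : ∀ (R : Type u) [CommRing R] (g : R), IsOpenImmersion (awayι R g) := fun R _ g =>
    IsOpenImmersion.of_isLocalization g
  have hub : ∀ z, awayι B (S.u f) z ∈ Set.range (specMap h.φB) := fun z => by
    rw [← preimage_u_W ho]
    exact hf ((mem_range_awayι f _).2 ((mem_range_awayι (S.u f) _).1 ⟨z, rfl⟩))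
  have hva : ∀ z, awayι A' (S.v f) z ∈ Set.range (specMap h.φA') := fun z => by
    rw [← preimage_v_W ho]
    exact hf ((mem_range_awayι f _).2 ((mem_range_awayι (S.v f) _).1 ⟨z, rfl⟩))
  obtain ⟨lB, hlB⟩ : ∃ l, l ≫ specMap h.φB = awayι B (S.u f) :=
    ⟨_, IsOpenImmersion.lift_fac _ _ (Set.range_subset_iff.2 hub)⟩
  obtain ⟨lA', hlA'⟩ : ∃ l, l ≫ specMap h.φA' = awayι A' (S.v f) :=
    ⟨_, IsOpenImmersion.lift_fac _ _ (Set.range_subset_iff.2 hva)⟩
  have e1 : specMap (S.loc f).q ≫ awayι B (S.u f) = awayι A (S.q (S.u f)) ≫ specMap S.q := by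
    rw [← Spec.map_comp, ← Spec.map_comp]; congr 1; ext z; simp [FibSq.loc, IsLocalization.Away.map]
  have e2 : specMap (S.loc f).p ≫ awayι A' (S.v f) = awayι A (S.q (S.u f)) ≫ specMap S.p := by
    rw [← Spec.map_comp, ← Spec.map_comp]; congr 1; ext z; simp [FibSq.loc]
  obtain ⟨lA, hlA⟩ : ∃ l, l ≫ specMap h.φA = awayι A (S.q (S.u f)) := by
    refine ⟨_, IsOpenImmersion.lift_fac _ _ (Set.range_subset_iff.2 fun z => (ho.rangeB _).2 ?_)⟩
    refine ⟨lB (specMap (S.loc f).q z), ?_⟩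
    have := congrArg (fun m : _ ⟶ Spec (CommRingCat.of B) => m z) e1
    rw [← hlB] at this
    simpa using this
  have hq : specMap (S.loc f).q ≫ lB = lA ≫ specMap T.q := by
    rw [← cancel_mono (specMap h.φB), Category.assoc, hlB, e1, Category.assoc, h.specMap_q, ← Category.assoc, hlA]
  have hp : specMap (S.loc f).p ≫ lA' = lA ≫ specMap T.p := by
    rw [← cancel_mono (specMap h.φA'), Category.assoc, hlA', e2, Category.assoc, h.specMap_p, ← Category.assoc, hlA]
  obtain ⟨l, hlu, hlv⟩ := (S.loc f).exists_desc (lB ≫ specMap T.u) (lA' ≫ specMap T.v) (by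
    rw [← Category.assoc, hq, ← Category.assoc, hp, Category.assoc, Category.assoc, T.spec_w])
  have hl : l ≫ specMap h.φ' = awayι B' f := by
    refine (S.loc f).hom_ext ?_ ?_
    · rw [← Category.assoc, hlu, Category.assoc, h.specMap_u, ← Category.assoc, hlB, S.loc_specMap_u]
    · rw [← Category.assoc, hlv, Category.assoc, h.specMap_v, ← Category.assoc, hlA', S.loc_specMap_v]
  obtain ⟨k, hk⟩ : ∃ k, k ≫ awayι B' f = awayι C' (h.φ' f) ≫ specMap h.φ' := by
    refine ⟨_, IsOpenImmersion.lift_fac _ _ ?_⟩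
    rintro _ ⟨z, rfl⟩
    rw [mem_range_awayι]
    exact (mem_range_awayι (h.φ' f) _).1 ⟨z, rfl⟩
  obtain ⟨l', hl'⟩ : ∃ l', l' ≫ awayι C' (h.φ' f) = l := by
    refine ⟨_, IsOpenImmersion.lift_fac _ _ ?_⟩
    rintro _ ⟨z, rfl⟩
    rw [mem_range_awayι]
    have := (mem_range_awayι f _).1 ⟨z, rfl⟩
    rw [← hl] at this
    exact fun hh => this (by simpa using! hh)
  have hkl : k ≫ l = awayι C' (h.φ' f) := by
    refine (T.loc (h.φ' f)).hom_ext ?_ ?_
    · rw [T.loc_specMap_u]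
      obtain ⟨m, hm⟩ : ∃ m, m ≫ awayι B (S.u f) = awayι C (T.u (h.φ' f)) ≫ specMap h.φB := by
        refine ⟨_, IsOpenImmersion.lift_fac _ _ ?_⟩
        rintro _ ⟨z, rfl⟩
        rw [mem_range_awayι]
        have := (mem_range_awayι (T.u (h.φ' f)) _).1 ⟨z, rfl⟩
        exact fun hh => this (cast (congrArg (fun y => y ∈ (_ : Ideal _)) (h.hu f).symm) hh)
      have : specMap (T.loc (h.φ' f)).u ≫ k = m ≫ specMap (S.loc f).u := by
        rw [← cancel_mono (awayι B' f), Category.assoc, hk, ← Category.assoc, T.loc_specMap_u, Category.assoc,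
          h.specMap_u, Category.assoc, S.loc_specMap_u, ← Category.assoc, ← hm, Category.assoc]
      rw [← Category.assoc, this, Category.assoc, hlu, ← Category.assoc]
      congr 1
      rw [← cancel_mono (specMap h.φB), Category.assoc, hlB, hm]
    · rw [T.loc_specMap_v]
      obtain ⟨m, hm⟩ : ∃ m, m ≫ awayι A' (S.v f) = awayι D' (T.v (h.φ' f)) ≫ specMap h.φA' := by
        refine ⟨_, IsOpenImmersion.lift_fac _ _ ?_⟩
        rintro _ ⟨z, rfl⟩
        rw [mem_range_awayι]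
        have := (mem_range_awayι (T.v (h.φ' f)) _).1 ⟨z, rfl⟩
        exact fun hh => this (cast (congrArg (fun y => y ∈ (_ : Ideal _)) (h.hv f).symm) hh)
      have : specMap (T.loc (h.φ' f)).v ≫ k = m ≫ specMap (S.loc f).v := by
        rw [← cancel_mono (awayι B' f), Category.assoc, hk, ← Category.assoc, T.loc_specMap_v, Category.assoc,
          h.specMap_v, Category.assoc, S.loc_specMap_v, ← Category.assoc, ← hm, Category.assoc]
      rw [← Category.assoc, this, Category.assoc, hlv, ← Category.assoc]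
      congr 1
      rw [← cancel_mono (specMap h.φA'), Category.assoc, hlA', hm]
  refine ⟨k, ⟨⟨l', ?_, ?_⟩⟩, hk⟩
  · rw [← cancel_mono (awayι C' (h.φ' f)), Category.assoc, hl', hkl, Category.id_comp]
  · rw [← cancel_mono (awayι B' f), Category.assoc, hk, ← Category.assoc, hl', hl, Category.id_comp]

theorem isOpenImmersion : IsOpenImmersion (specMap h.φ') := by
  haveI hι : ∀ (R : Type u) [CommRing R] (g : R), IsOpenImmersion (awayι R g) := fun R _ g =>
    IsOpenImmersion.of_isLocalization g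
  have hloc : ∀ z, ∃ f : B', ∃ (_ : specMap h.φ' z ∈ Set.range (awayι B' f)),
      ∃ k : Spec (.of (Localization.Away (h.φ' f))) ⟶ Spec (.of (Localization.Away f)),
        IsIso k ∧ k ≫ awayι B' f = awayι C' (h.φ' f) ≫ specMap h.φ' := fun z => by
    obtain ⟨-, ⟨f, rfl⟩, hzf, hfW⟩ := PrimeSpectrum.isTopologicalBasis_basic_opens.exists_subset_of_mem_open
      (range_subset_W ⟨z, rfl⟩ : specMap h.φ' z ∈ h.W) (isOpen_W ho)
    have hr : Set.range (awayι B' f) ⊆ h.W := fun x hx => hfW ((mem_range_awayι f x).1 hx)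
    exact ⟨f, (mem_range_awayι f _).2 hzf, exists_local_iso ho f hr⟩
  refine IsOpenImmersion.iff_isIso_stalkMap.2 ⟨.of_continuous_injective_isOpenMap (specMap h.φ').continuous ?_ ?_, fun z => ?_⟩
  · intro z z' e
    obtain ⟨f, hzf, k, hk, hke⟩ := hloc z
    haveI := hk
    obtain ⟨w, rfl⟩ := (mem_range_awayι (h.φ' f) z).2 ((mem_range_awayι f _).1 hzf)
    obtain ⟨w', rfl⟩ := (mem_range_awayι (h.φ' f) z').2 ((mem_range_awayι f _).1 (e ▸ hzf))
    rw [← Scheme.Hom.comp_apply, ← Scheme.Hom.comp_apply, ← hke] at e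
    rw [(k ≫ awayι B' f).isOpenEmbedding.injective e]
  · intro O hO
    refine isOpen_iff_forall_mem_open.2 ?_
    rintro _ ⟨z, hz, rfl⟩
    obtain ⟨f, hzf, k, hk, hke⟩ := hloc z
    haveI := hk
    refine ⟨(k ≫ awayι B' f) '' (awayι C' (h.φ' f) ⁻¹' O), ?_,
      (k ≫ awayι B' f).isOpenEmbedding.isOpenMap _ ((awayι C' (h.φ' f)).continuous.isOpen_preimage _ hO), ?_⟩
    · rintro _ ⟨w, hw, rfl⟩
      rw [hke]; exact ⟨_, hw, rfl⟩
    · obtain ⟨w, rfl⟩ := (mem_range_awayι (h.φ' f) z).2 ((mem_range_awayι f _).1 hzf)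
      exact ⟨w, hz, by rw [hke]; rfl⟩
  · obtain ⟨f, hzf, k, hk, hke⟩ := hloc z
    haveI := hk
    obtain ⟨w, rfl⟩ := (mem_range_awayι (h.φ' f) z).2 ((mem_range_awayι f _).1 hzf)
    haveI : IsOpenImmersion (awayι C' (h.φ' f) ≫ specMap h.φ') := hke ▸ inferInstance
    have h1 := Scheme.Hom.stalkMap_comp (awayι C' (h.φ' f)) (specMap h.φ') w
    haveI : IsIso ((awayι C' (h.φ' f)).stalkMap w) := inferInstance
    haveI h2 : IsIso ((awayι C' (h.φ' f) ≫ specMap h.φ').stalkMap w) :=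
      (IsOpenImmersion.iff_isIso_stalkMap.1 ‹_›).2 w
    exact IsIso.of_isIso_fac_right (hh := h2) h1.symm

end SqHom

end Groth.Agent.PushLib
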