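import Mathlib
import Groth.Agent.PushLib.SqHom

/-!
# Existence of pushouts along a closed immersion
-/

set_option autoImplicit false
universe u

open CategoryTheory AlgebraicGeometry Limits

namespace Groth.Agent.PushLib

variable {Z X Y : Scheme.{u}} (i : Z ⟶ X) (j : Z ⟶ Y)

/-- nice pairs of affine opens -/
structure Nice where
  U : X.Opens
  V : Y.Opens
  hU : IsAffineOpen U
  hV : IsAffineOpen V
  heq : i ⁻¹ᵁ U = j ⁻¹ᵁ V

namespace Nice

instance : Preorder (Nice i j) where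
  le p q := p.U ≤ q.U ∧ p.V ≤ q.V
  le_refl p := ⟨le_rfl, le_rfl⟩
  le_trans _ _ _ h h' := ⟨h.1.trans h'.1, h.2.trans h'.2⟩

variable {i j}

noncomputable abbrev q (p : Nice i j) : Γ(Y, p.V) ⟶ Γ(Z, i ⁻¹ᵁ p.U) := j.appLE p.V _ p.heq.le

noncomputable abbrev p' (p : Nice i j) : Γ(X, p.U) ⟶ Γ(Z, i ⁻¹ᵁ p.U) := i.app p.U

/-- the fibre product ring -/
noncomputable def ringSub (p : Nice i j) : Subring (Γ(Y, p.V) × Γ(X, p.U)) :=
  RingHom.eqLocus (p.q.hom.comp (RingHom.fst _ _)) (p.p'.hom.comp (RingHom.snd _ _))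

noncomputable abbrev ring (p : Nice i j) : Type u := ↥p.ringSub

variable [IsClosedImmersion i]

noncomputable def sq (p : Nice i j) : FibSq p.ring Γ(Y, p.V) Γ(X, p.U) Γ(Z, i ⁻¹ᵁ p.U) where
  u := (RingHom.fst _ _).comp p.ringSub.subtype
  v := (RingHom.snd _ _).comp p.ringSub.subtype
  q := p.q.hom
  p := p.p'.hom
  w := fun x => x.2
  surj := i.app_surjective _ p.hU
  inj := fun x y h1 h2 => Subtype.ext (Prod.ext h1 h2)
  lift := fun b a h => ⟨⟨(b, a), h⟩, rfl, rfl⟩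

omit [IsClosedImmersion i] in
theorem le_U {p m : Nice i j} (h : p ≤ m) : i ⁻¹ᵁ p.U ≤ i ⁻¹ᵁ m.U := i.preimage_mono h.1

omit [IsClosedImmersion i] in
theorem res_q {p m : Nice i j} (h : p ≤ m) :
    Y.presheaf.map (homOfLE h.2).op ≫ p.q = m.q ≫ Z.presheaf.map (homOfLE (le_U h)).op := by
  simp only [q, Scheme.Hom.map_appLE, Scheme.Hom.appLE_map]

omit [IsClosedImmersion i] in
theorem res_p' {p m : Nice i j} (h : p ≤ m) :
    X.presheaf.map (homOfLE h.1).op ≫ p.p' = m.p' ≫ Z.presheaf.map (homOfLE (le_U h)).op :=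
  i.naturality _

noncomputable def resRing {p m : Nice i j} (h : p ≤ m) : m.ring →+* p.ring :=
  ((((Y.presheaf.map (homOfLE h.2).op).hom.comp (RingHom.fst _ _)).prod
    ((X.presheaf.map (homOfLE h.1).op).hom.comp (RingHom.snd _ _))).comp m.ringSub.subtype).codRestrict
      p.ringSub fun x => by
    show (Y.presheaf.map (homOfLE h.2).op ≫ p.q) x.1.1 = (X.presheaf.map (homOfLE h.1).op ≫ p.p') x.1.2
    rw [res_q h, res_p' h]
    exact congrArg _ x.2

noncomputable def hom {p m : Nice i j} (h : p ≤ m) : SqHom m.sq p.sq where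
  φ' := resRing h
  φB := (Y.presheaf.map (homOfLE h.2).op).hom
  φA' := (X.presheaf.map (homOfLE h.1).op).hom
  φA := (Z.presheaf.map (homOfLE (le_U h)).op).hom
  hu _ := rfl
  hv _ := rfl
  hq x := congrArg (fun f : Γ(Y, m.V) ⟶ Γ(Z, i ⁻¹ᵁ p.U) => f x) (res_q h)
  hp x := congrArg (fun f : Γ(X, m.U) ⟶ Γ(Z, i ⁻¹ᵁ p.U) => f x) (res_p' h)

end Nice

theorem range_specMap_res {X : Scheme.{u}} {U' U : X.Opens} (hU' : IsAffineOpen U') (hU : IsAffineOpen U) (h : U' ≤ U) :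
    Set.range (Spec.map (X.presheaf.map (homOfLE h).op)) = hU.fromSpec ⁻¹' U' := by
  ext z
  constructor
  · rintro ⟨w, rfl⟩
    show hU.fromSpec (Spec.map _ w) ∈ U'
    rw [← Scheme.Hom.comp_apply, hU.map_fromSpec (hV := hU')]
    have := Set.mem_range_self (f := hU'.fromSpec) w
    rwa [hU'.range_fromSpec] at this
  · intro hz
    obtain ⟨w, hw⟩ : hU.fromSpec z ∈ Set.range hU'.fromSpec := by rw [hU'.range_fromSpec]; exact hz
    refine ⟨w, hU.fromSpec.isOpenEmbedding.injective ?_⟩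
    rw [← Scheme.Hom.comp_apply, hU.map_fromSpec (hV := hU'), hw]

theorem isOpenImmersion_specMap_res {X : Scheme.{u}} {U' U : X.Opens} (hU' : IsAffineOpen U') (hU : IsAffineOpen U)
    (h : U' ≤ U) : IsOpenImmersion (Spec.map (X.presheaf.map (homOfLE h).op)) := by
  haveI : IsOpenImmersion (Spec.map (X.presheaf.map (homOfLE h).op) ≫ hU.fromSpec) := by
    rw [hU.map_fromSpec (hV := hU')]; infer_instance
  exact IsOpenImmersion.of_comp _ hU.fromSpec

namespace Nice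

variable {i j} [IsClosedImmersion i]

theorem fromSpec_p (m : Nice i j) (P : PrimeSpectrum Γ(Z, i ⁻¹ᵁ m.U)) :
    m.hU.fromSpec (PrimeSpectrum.comap m.p'.hom P) = i ((m.hU.preimage i).fromSpec P) := by
  have := congrArg (fun f : _ ⟶ X => f P) (m.hU.SpecMap_appLE_fromSpec i (m.hU.preimage i) (V := i ⁻¹ᵁ m.U) le_rfl)
  simp only [Scheme.Hom.appLE_eq_app] at this
  exact this

theorem fromSpec_q (m : Nice i j) (P : PrimeSpectrum Γ(Z, i ⁻¹ᵁ m.U)) :
    m.hV.fromSpec (PrimeSpectrum.comap m.q.hom P) = j ((m.hU.preimage i).fromSpec P) :=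
  congrArg (fun f : _ ⟶ Y => f P) (m.hV.SpecMap_appLE_fromSpec j (m.hU.preimage i) m.heq.le)

theorem hom_isOpen {p m : Nice i j} (h : p ≤ m) : (hom h).IsOpen := by
  refine ⟨isOpenImmersion_specMap_res p.hV m.hV _, isOpenImmersion_specMap_res p.hU m.hU _,
    isOpenImmersion_specMap_res (p.hU.preimage i) (m.hU.preimage i) _, fun P => ?_, fun P => ?_⟩
  · show P ∈ Set.range (Spec.map (Z.presheaf.map _)) ↔ Spec.map m.q P ∈ Set.range (Spec.map (Y.presheaf.map _))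
    rw [range_specMap_res (p.hU.preimage i) (m.hU.preimage i), range_specMap_res p.hV m.hV, Set.mem_preimage, Set.mem_preimage]
    show (m.hU.preimage i).fromSpec P ∈ i ⁻¹ᵁ p.U ↔ m.hV.fromSpec (PrimeSpectrum.comap m.q.hom P) ∈ p.V
    rw [fromSpec_q m P, p.heq]
    rfl
  · show P ∈ Set.range (Spec.map (Z.presheaf.map _)) ↔ Spec.map m.p' P ∈ Set.range (Spec.map (X.presheaf.map _))
    rw [range_specMap_res (p.hU.preimage i) (m.hU.preimage i), range_specMap_res p.hU m.hU, Set.mem_preimage, Set.mem_preimage]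
    show (m.hU.preimage i).fromSpec P ∈ i ⁻¹ᵁ p.U ↔ m.hU.fromSpec (PrimeSpectrum.comap m.p'.hom P) ∈ p.U
    rw [fromSpec_p m P]
    rfl

/-- points of a chart coming from given opens `O ⊆ X`, `O' ⊆ Y` -/
def W (m : Nice i j) (O : X.Opens) (O' : Y.Opens) : Set (PrimeSpectrum m.ring) :=
  PrimeSpectrum.comap m.sq.u '' (m.hV.fromSpec ⁻¹' O') ∪ PrimeSpectrum.comap m.sq.v '' (m.hU.fromSpec ⁻¹' O)

theorem compat_O (m : Nice i j) (O : X.Opens) (O' : Y.Opens) (h : i ⁻¹ᵁ O = j ⁻¹ᵁ O') :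
    ∀ P : PrimeSpectrum Γ(Z, i ⁻¹ᵁ m.U),
      PrimeSpectrum.comap m.sq.q P ∈ m.hV.fromSpec ⁻¹' O' ↔ PrimeSpectrum.comap m.sq.p P ∈ m.hU.fromSpec ⁻¹' O := by
  intro P
  show m.hV.fromSpec (PrimeSpectrum.comap m.q.hom P) ∈ O' ↔ m.hU.fromSpec (PrimeSpectrum.comap m.p'.hom P) ∈ O
  rw [fromSpec_q, fromSpec_p]
  exact (TopologicalSpace.Opens.ext_iff.1 h ▸ Iff.rfl :
    (m.hU.preimage i).fromSpec P ∈ ((j ⁻¹ᵁ O' : Z.Opens) : Set Z) ↔ (m.hU.preimage i).fromSpec P ∈ ((i ⁻¹ᵁ O : Z.Opens) : Set Z))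

theorem preimage_u_W (m : Nice i j) (O : X.Opens) (O' : Y.Opens) (h : i ⁻¹ᵁ O = j ⁻¹ᵁ O') :
    PrimeSpectrum.comap m.sq.u ⁻¹' m.W O O' = m.hV.fromSpec ⁻¹' O' :=
  m.sq.preimage_u_union _ _ (m.compat_O O O' h)

theorem preimage_v_W (m : Nice i j) (O : X.Opens) (O' : Y.Opens) (h : i ⁻¹ᵁ O = j ⁻¹ᵁ O') :
    PrimeSpectrum.comap m.sq.v ⁻¹' m.W O O' = m.hU.fromSpec ⁻¹' O :=
  m.sq.preimage_v_union _ _ (m.compat_O O O' h)

theorem exists_le (m : Nice i j) (O : X.Opens) (O' : Y.Opens) (h : i ⁻¹ᵁ O = j ⁻¹ᵁ O') (x : PrimeSpectrum m.ring)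
    (hx : x ∈ m.W O O') :
    ∃ (r : Nice i j) (hrm : r ≤ m), r.U ≤ O ∧ r.V ≤ O' ∧ x ∈ Set.range (specMap (resRing hrm)) := by
  obtain ⟨-, ⟨f, rfl⟩, hxf, hfW⟩ := PrimeSpectrum.isTopologicalBasis_basic_opens.exists_subset_of_mem_open hx
    (m.sq.isOpen_of_preimages _ (by rw [m.preimage_u_W O O' h]; exact O'.2.preimage m.hV.fromSpec.continuous)
      (by rw [m.preimage_v_W O O' h]; exact O.2.preimage m.hU.fromSpec.continuous))
  have heq : i ⁻¹ᵁ X.basicOpen (f.1.2) = j ⁻¹ᵁ Y.basicOpen (f.1.1) := by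
    rw [Scheme.preimage_basicOpen, Scheme.preimage_basicOpen, show i.app m.U f.1.2 = m.q f.1.1 from f.2.symm,
      q, Scheme.Hom.appLE, CommRingCat.comp_apply, Scheme.basicOpen_res, m.heq]
    exact inf_eq_right.2 (Z.basicOpen_le _)
  let r : Nice i j := ⟨X.basicOpen f.1.2, Y.basicOpen f.1.1, m.hU.basicOpen _, m.hV.basicOpen _, heq⟩
  refine ⟨r, ⟨X.basicOpen_le _, Y.basicOpen_le _⟩, fun y hy => ?_, fun y hy => ?_, ?_⟩
  · obtain ⟨z, rfl⟩ : y ∈ Set.range m.hU.fromSpec := by rw [m.hU.range_fromSpec]; exact X.basicOpen_le _ hy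
    have hz : z ∈ PrimeSpectrum.basicOpen f.1.2 := by
      rw [← m.hU.fromSpec_preimage_basicOpen]; exact hy
    have : PrimeSpectrum.comap m.sq.v z ∈ m.W O O' := hfW hz
    exact (Set.ext_iff.1 (m.preimage_v_W O O' h) z).1 this
  · obtain ⟨z, rfl⟩ : y ∈ Set.range m.hV.fromSpec := by rw [m.hV.range_fromSpec]; exact Y.basicOpen_le _ hy
    have hz : z ∈ PrimeSpectrum.basicOpen f.1.1 := by
      rw [← m.hV.fromSpec_preimage_basicOpen]; exact hy
    have : PrimeSpectrum.comap m.sq.u z ∈ m.W O O' := hfW hz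
    exact (Set.ext_iff.1 (m.preimage_u_W O O' h) z).1 this
  · rw [show resRing _ = (hom (p := r) (m := m) ⟨X.basicOpen_le _, Y.basicOpen_le _⟩).φ' from rfl, SqHom.range_eq]
    rcases m.sq.eq_or_eq x with ⟨y, rfl⟩ | ⟨y, rfl⟩
    · refine Or.inl ⟨y, ?_, rfl⟩
      show y ∈ Set.range (Spec.map (Y.presheaf.map _))
      rw [range_specMap_res r.hV m.hV]
      show y ∈ m.hV.fromSpec ⁻¹ᵁ Y.basicOpen f.1.1
      rw [m.hV.fromSpec_preimage_basicOpen]
      exact hxf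
    · refine Or.inr ⟨y, ?_, rfl⟩
      show y ∈ Set.range (Spec.map (X.presheaf.map _))
      rw [range_specMap_res r.hU m.hU]
      show y ∈ m.hU.fromSpec ⁻¹ᵁ X.basicOpen f.1.2
      rw [m.hU.fromSpec_preimage_basicOpen]
      exact hxf

theorem range_resRing {p m : Nice i j} (h : p ≤ m) : Set.range (specMap (resRing h)) = m.W p.U p.V := by
  rw [show resRing h = (hom h).φ' from rfl, SqHom.range_eq]
  show PrimeSpectrum.comap m.sq.u '' Set.range (Spec.map (Y.presheaf.map (homOfLE h.2).op)) ∪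
    PrimeSpectrum.comap m.sq.v '' Set.range (Spec.map (X.presheaf.map (homOfLE h.1).op)) = _
  exact congrArg₂ (fun a b => PrimeSpectrum.comap m.sq.u '' a ∪ PrimeSpectrum.comap m.sq.v '' b)
    (range_specMap_res p.hV m.hV h.2) (range_specMap_res p.hU m.hU h.1)

variable (i j) in
/-- the diagram of charts -/
noncomputable def F : Nice i j ⥤ Scheme.{u} where
  obj p := Spec (.of p.ring)
  map f := specMap (resRing (leOfHom f))
  map_id p := by
    rw [← Spec.map_id]; congr 1; ext x <;> simp [resRing]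
  map_comp {p q r} f g := by
    rw [← Spec.map_comp]; congr 1; ext x
    · change (Y.presheaf.map _).hom x.1.1 = (Y.presheaf.map _).hom ((Y.presheaf.map _).hom x.1.1)
      rw [← CommRingCat.comp_apply, ← Functor.map_comp]; rfl
    · change (X.presheaf.map _).hom x.1.2 = (X.presheaf.map _).hom ((X.presheaf.map _).hom x.1.2)
      rw [← CommRingCat.comp_apply, ← Functor.map_comp]; rfl

theorem isOpenImmersion_resRing {p m : Nice i j} (h : p ≤ m) : IsOpenImmersion (specMap (resRing h)) := by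
  have := SqHom.isOpenImmersion (S := m.sq) (T := p.sq) (h := hom h) (hom_isOpen h)
  exact this

instance instOpenMap {p m : Nice i j} (f : p ⟶ m) : IsOpenImmersion ((F i j).map f) :=
  isOpenImmersion_resRing (leOfHom f)

instance : ((F i j) ⋙ Scheme.forget).IsLocallyDirected where
  cond {k l m} fk fl xk xl hx := by
    have hx' : specMap (resRing (leOfHom fk)) xk = specMap (resRing (leOfHom fl)) xl := hx
    have h1 : specMap (resRing (leOfHom fk)) xk ∈ m.W k.U k.V := range_resRing (leOfHom fk) ▸ ⟨xk, rfl⟩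
    have h2 : specMap (resRing (leOfHom fk)) xk ∈ m.W l.U l.V := range_resRing (leOfHom fl) ▸ ⟨xl, hx'.symm⟩
    have h : i ⁻¹ᵁ (k.U ⊓ l.U) = j ⁻¹ᵁ (k.V ⊓ l.V) := by
      rw [Scheme.Hom.preimage_inf, Scheme.Hom.preimage_inf, k.heq, l.heq]
    have h3 : specMap (resRing (leOfHom fk)) xk ∈ m.W (k.U ⊓ l.U) (k.V ⊓ l.V) := by
      rcases m.sq.eq_or_eq (specMap (resRing (leOfHom fk)) xk) with ⟨y, hy⟩ | ⟨y, hy⟩
      · rw [← hy] at h1 h2 ⊢
        exact (Set.ext_iff.1 (m.preimage_u_W _ _ h) y).2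
          ⟨(Set.ext_iff.1 (m.preimage_u_W _ _ k.heq) y).1 h1, (Set.ext_iff.1 (m.preimage_u_W _ _ l.heq) y).1 h2⟩
      · rw [← hy] at h1 h2 ⊢
        exact (Set.ext_iff.1 (m.preimage_v_W _ _ h) y).2
          ⟨(Set.ext_iff.1 (m.preimage_v_W _ _ k.heq) y).1 h1, (Set.ext_iff.1 (m.preimage_v_W _ _ l.heq) y).1 h2⟩
    obtain ⟨r, hrm, hrU, hrV, w, hw⟩ := m.exists_le _ _ h _ h3
    have hrk : r ≤ k := ⟨hrU.trans inf_le_left, hrV.trans inf_le_left⟩
    have hrl : r ≤ l := ⟨hrU.trans inf_le_right, hrV.trans inf_le_right⟩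
    refine ⟨r, homOfLE hrk, homOfLE hrl, w, ?_, ?_⟩
    · refine ((F i j).map fk).isOpenEmbedding.injective ?_
      show ((F i j).map (homOfLE hrk) ≫ (F i j).map fk) w = _
      rw [← (F i j).map_comp]
      exact hw
    · refine ((F i j).map fl).isOpenEmbedding.injective ?_
      show ((F i j).map (homOfLE hrl) ≫ (F i j).map fl) w = _
      rw [← (F i j).map_comp]
      exact hw.trans hx'

end Nice

end Groth.Agent.PushLib
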