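import Mathlib
import Groth.Agent.PushLib.SpecPush

/-!
# Pushout squares of schemes which are, over affine opens, spectra of fibre squares
-/

set_option autoImplicit false
universe u

open CategoryTheory AlgebraicGeometry Limits

namespace Groth.Agent.PushLib

variable {Z X Y P : Scheme.{u}} (i : Z ⟶ X) (j : Z ⟶ Y) (a : X ⟶ P) (b : Y ⟶ P)

theorem preimage_eq_of_w (w : i ≫ a = j ≫ b) (U : P.Opens) : i ⁻¹ᵁ (a ⁻¹ᵁ U) = j ⁻¹ᵁ (b ⁻¹ᵁ U) := by
  rw [← Scheme.Hom.comp_preimage, ← Scheme.Hom.comp_preimage, w]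

/-- morphisms out of a scheme are determined on a covering family of affine opens -/
theorem hom_ext_of_fromSpec {X T : Scheme.{u}} {ι : Type*} (U : ι → X.Opens) (hU : ∀ k, IsAffineOpen (U k))
    (hc : ∀ x, ∃ k, x ∈ U k) {f g : X ⟶ T} (h : ∀ k, (hU k).fromSpec ≫ f = (hU k).fromSpec ≫ g) : f = g := by
  refine Scheme.Cover.hom_ext (X.openCoverOfIsOpenCover U (TopologicalSpace.IsOpenCover.mk (by
    ext x; simpa using hc x))) _ _ fun k => ?_
  show (U k).ι ≫ f = (U k).ι ≫ g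
  rw [← cancel_epi (hU k).isoSpec.inv]
  simpa [IsAffineOpen.isoSpec_inv_ι_assoc] using h k

/-- A square which over every affine open of `P` is the spectrum of a fibre square of rings with
a surjective leg is a pushout in the category of schemes. -/
theorem isPushout_of_affine (w : i ≫ a = j ≫ b) [IsAffineHom a] [IsAffineHom b] [IsAffineHom i]
    (𝓑 : Set P.Opens) (h𝓑 : TopologicalSpace.Opens.IsBasis 𝓑) (haff : ∀ U ∈ 𝓑, IsAffineOpen U)
    (hsurj : ∀ U ∈ 𝓑, Function.Surjective (i.app (a ⁻¹ᵁ U)))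
    (hinj : ∀ U ∈ 𝓑, ∀ x y, a.app U x = a.app U y → b.app U x = b.app U y → x = y)
    (hlift : ∀ U ∈ 𝓑, ∀ x y,
      i.app (a ⁻¹ᵁ U) x = j.appLE (b ⁻¹ᵁ U) (i ⁻¹ᵁ (a ⁻¹ᵁ U)) (preimage_eq_of_w i j a b w U).le y →
        ∃ r, a.app U r = x ∧ b.app U r = y) :
    IsPushout i j a b := by
  have happ : ∀ U : P.Opens, a.app U ≫ i.app (a ⁻¹ᵁ U) =
      b.app U ≫ j.appLE (b ⁻¹ᵁ U) (i ⁻¹ᵁ (a ⁻¹ᵁ U)) (preimage_eq_of_w i j a b w U).le := fun U => by
    simp only [← Scheme.Hom.appLE_eq_app, Scheme.Hom.appLE_comp_appLE]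
    congr 1
  have key : ∀ (T : Scheme.{u}) (c : X ⟶ T) (d : Y ⟶ T), i ≫ c = j ≫ d → ∀ U : 𝓑,
      ∃! k : Spec Γ(P, U.1) ⟶ T, Spec.map (a.app U.1) ≫ k = ((haff _ U.2).preimage a).fromSpec ≫ c ∧
        Spec.map (b.app U.1) ≫ k = ((haff _ U.2).preimage b).fromSpec ≫ d := by
    intro T c d hcd U
    let S : FibSq Γ(P, U.1) Γ(Y, b ⁻¹ᵁ U.1) Γ(X, a ⁻¹ᵁ U.1) Γ(Z, i ⁻¹ᵁ (a ⁻¹ᵁ U.1)) :=
      { u := (b.app U.1).hom
        v := (a.app U.1).hom
        q := (j.appLE (b ⁻¹ᵁ U.1) _ (preimage_eq_of_w i j a b w U.1).le).hom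
        p := (i.app (a ⁻¹ᵁ U.1)).hom
        w := fun x => (DFunLike.congr_fun (congrArg CommRingCat.Hom.hom (happ U.1)) x).symm
        surj := hsurj U.1 U.2
        inj := fun x y h1 h2 => hinj U.1 U.2 x y h2 h1
        lift := fun y x h => by
          obtain ⟨r, hr1, hr2⟩ := hlift U.1 U.2 x y h.symm
          exact ⟨r, hr2, hr1⟩ }
    have hZ : IsAffineOpen (i ⁻¹ᵁ (a ⁻¹ᵁ U.1)) := ((haff _ U.2).preimage a).preimage i
    obtain ⟨k, hk1, hk2⟩ := S.exists_desc (((haff _ U.2).preimage b).fromSpec ≫ d) (((haff _ U.2).preimage a).fromSpec ≫ c) (by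
      show Spec.map (j.appLE (b ⁻¹ᵁ U.1) _ _) ≫ _ = Spec.map (i.app (a ⁻¹ᵁ U.1)) ≫ _
      rw [← Category.assoc, ← Category.assoc, ← Scheme.Hom.appLE_eq_app,
        ((haff _ U.2).preimage b).SpecMap_appLE_fromSpec j hZ, ((haff _ U.2).preimage a).SpecMap_appLE_fromSpec i hZ,
        Category.assoc, Category.assoc, hcd])
    exact ⟨k, ⟨hk2, hk1⟩, fun k' hk' => S.hom_ext (hk'.2.trans hk1.symm) (hk'.1.trans hk2.symm)⟩
  have hfs : ∀ U : 𝓑, ∀ {X' : Scheme.{u}} (f : X' ⟶ P) [IsAffineHom f],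
      Spec.map (f.app U.1) ≫ (haff _ U.2).fromSpec = ((haff _ U.2).preimage f).fromSpec ≫ f := fun U X' f _ => by
    rw [← Scheme.Hom.appLE_eq_app, (haff _ U.2).SpecMap_appLE_fromSpec f ((haff _ U.2).preimage f)]
  have hext : ∀ (T : Scheme.{u}) (K K' : P ⟶ T), a ≫ K = a ≫ K' → b ≫ K = b ≫ K' → K = K' := by
    intro T K K' h1 h2
    refine hom_ext_of_fromSpec (fun U : 𝓑 => U.1) (fun U => haff _ U.2) (fun x => ?_) fun U => ?_
    · obtain ⟨U, hU, hx, -⟩ := TopologicalSpace.Opens.isBasis_iff_nbhd.1 h𝓑 (U := ⊤) (x := x) trivial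
      exact ⟨⟨U, hU⟩, hx⟩
    refine (key T (a ≫ K) (b ≫ K) (by rw [← Category.assoc, w, Category.assoc]) U).unique ⟨?_, ?_⟩ ⟨?_, ?_⟩
    · rw [← Category.assoc, hfs, Category.assoc]
    · rw [← Category.assoc, hfs, Category.assoc]
    · rw [← Category.assoc, hfs, Category.assoc, h1]
    · rw [← Category.assoc, hfs, Category.assoc, h2]
  have hdesc : ∀ (T : Scheme.{u}) (c : X ⟶ T) (d : Y ⟶ T), i ≫ c = j ≫ d → ∃ K, a ≫ K = c ∧ b ≫ K = d := by
    intro T c d hcd
    choose k hk hku using key T c d hcd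
    have hres : ∀ (W U : 𝓑) (hle : W.1 ≤ U.1),
        Spec.map (P.presheaf.map (homOfLE hle).op) ≫ k U = k W := fun W U hle => by
      refine hku W _ ⟨?_, ?_⟩
      · have e : Spec.map (a.app W.1) ≫ Spec.map (P.presheaf.map (homOfLE hle).op) =
            Spec.map (X.presheaf.map (homOfLE (a.preimage_mono hle)).op) ≫ Spec.map (a.app U.1) := by
          rw [← Spec.map_comp, ← Spec.map_comp]; congr 1; exact a.naturality _
        rw [← Category.assoc, e, Category.assoc, (hk U).1, ← Category.assoc, IsAffineOpen.map_fromSpec]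
      · have e : Spec.map (b.app W.1) ≫ Spec.map (P.presheaf.map (homOfLE hle).op) =
            Spec.map (Y.presheaf.map (homOfLE (b.preimage_mono hle)).op) ≫ Spec.map (b.app U.1) := by
          rw [← Spec.map_comp, ← Spec.map_comp]; congr 1; exact b.naturality _
        rw [← Category.assoc, e, Category.assoc, (hk U).2, ← Category.assoc, IsAffineOpen.map_fromSpec]
    let 𝒰 : P.OpenCover := Scheme.Cover.mkOfCovers 𝓑 (fun U => Spec Γ(P, U.1)) (fun U => (haff _ U.2).fromSpec)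
      (fun x => by
        obtain ⟨U, hU, hx, -⟩ := TopologicalSpace.Opens.isBasis_iff_nbhd.1 h𝓑 (U := ⊤) (x := x) trivial
        obtain ⟨y, hy⟩ : x ∈ Set.range (haff _ hU).fromSpec := by rw [(haff _ hU).range_fromSpec]; exact hx
        exact ⟨⟨U, hU⟩, y, hy⟩)
      (fun U => show IsOpenImmersion (haff _ U.2).fromSpec from inferInstance)
    refine ⟨Scheme.Cover.glueMorphisms 𝒰 k fun U V => ?_, ?_, ?_⟩
    · show pullback.fst (haff _ U.2).fromSpec (haff _ V.2).fromSpec ≫ k U =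
        pullback.snd (haff _ U.2).fromSpec (haff _ V.2).fromSpec ≫ k V
      let ι := pullback.fst (haff _ U.2).fromSpec (haff _ V.2).fromSpec ≫ (haff _ U.2).fromSpec
      let κ := {W : 𝓑 // W.1 ≤ ι.opensRange}
      let f : ∀ W : κ, Spec Γ(P, W.1.1) ⟶ pullback (haff _ U.2).fromSpec (haff _ V.2).fromSpec := fun W =>
        IsOpenImmersion.lift ι (haff _ W.1.2).fromSpec (by rw [(haff _ W.1.2).range_fromSpec]; exact W.2)
      have hf : ∀ W : κ, f W ≫ ι = (haff _ W.1.2).fromSpec := fun W => IsOpenImmersion.lift_fac _ _ _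
      let 𝒱 : (pullback (haff _ U.2).fromSpec (haff _ V.2).fromSpec).OpenCover :=
        Scheme.Cover.mkOfCovers κ (fun W => Spec Γ(P, W.1.1)) f
          (fun z => by
            obtain ⟨W, hW, hz, hle⟩ := TopologicalSpace.Opens.isBasis_iff_nbhd.1 h𝓑 (U := ι.opensRange) (x := ι z) ⟨z, rfl⟩
            obtain ⟨y, hy⟩ : ι z ∈ Set.range (haff _ hW).fromSpec := by rw [(haff _ hW).range_fromSpec]; exact hz
            refine ⟨⟨⟨W, hW⟩, hle⟩, y, ι.isOpenEmbedding.injective ?_⟩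
            rw [← hy, ← hf ⟨⟨W, hW⟩, hle⟩]; rfl)
          (fun W => by
            haveI : IsOpenImmersion (f W ≫ ι) := by rw [hf]; infer_instance
            exact IsOpenImmersion.of_comp (f W) ι)
      refine Scheme.Cover.hom_ext 𝒱 _ _ fun W => ?_
      have hWU : W.1.1 ≤ U.1 := fun x hx => by
        obtain ⟨z, rfl⟩ := W.2 hx
        have := Set.mem_range_self (f := (haff _ U.2).fromSpec) (pullback.fst (haff _ U.2).fromSpec (haff _ V.2).fromSpec z)
        rw [(haff _ U.2).range_fromSpec] at this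
        simpa [ι] using this
      have hWV : W.1.1 ≤ V.1 := fun x hx => by
        obtain ⟨z, rfl⟩ := W.2 hx
        have := Set.mem_range_self (f := (haff _ V.2).fromSpec) (pullback.snd (haff _ U.2).fromSpec (haff _ V.2).fromSpec z)
        rw [(haff _ V.2).range_fromSpec] at this
        simpa [ι, pullback.condition] using this
      have h1 : f W ≫ pullback.fst _ _ = Spec.map (P.presheaf.map (homOfLE hWU).op) := by
        rw [← cancel_mono (haff _ U.2).fromSpec, IsAffineOpen.map_fromSpec (hV := haff _ W.1.2), Category.assoc]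
        exact hf W
      have h2 : f W ≫ pullback.snd _ _ = Spec.map (P.presheaf.map (homOfLE hWV).op) := by
        rw [← cancel_mono (haff _ V.2).fromSpec, IsAffineOpen.map_fromSpec (hV := haff _ W.1.2), Category.assoc, ← pullback.condition]
        exact hf W
      show f W ≫ _ = f W ≫ _
      rw [← Category.assoc, ← Category.assoc, h1, h2, hres W.1 U hWU, hres W.1 V hWV]
    · refine hom_ext_of_fromSpec (fun U : 𝓑 => a ⁻¹ᵁ U.1) (fun U => (haff _ U.2).preimage a) (fun x => ?_) fun U => ?_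
      · obtain ⟨U, hU, hx, -⟩ := TopologicalSpace.Opens.isBasis_iff_nbhd.1 h𝓑 (U := ⊤) (x := a x) trivial
        exact ⟨⟨U, hU⟩, hx⟩
      rw [← Category.assoc, ← hfs, Category.assoc]
      exact (congrArg _ (Scheme.Cover.ι_glueMorphisms 𝒰 k _ U)).trans (hk U).1
    · refine hom_ext_of_fromSpec (fun U : 𝓑 => b ⁻¹ᵁ U.1) (fun U => (haff _ U.2).preimage b) (fun x => ?_) fun U => ?_
      · obtain ⟨U, hU, hx, -⟩ := TopologicalSpace.Opens.isBasis_iff_nbhd.1 h𝓑 (U := ⊤) (x := b x) trivial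
        exact ⟨⟨U, hU⟩, hx⟩
      rw [← Category.assoc, ← hfs, Category.assoc]
      exact (congrArg _ (Scheme.Cover.ι_glueMorphisms 𝒰 k _ U)).trans (hk U).2
  choose d hd hd' using fun s : PushoutCocone i j => hdesc s.pt s.inl s.inr s.condition
  exact ⟨⟨w⟩, ⟨PushoutCocone.IsColimit.mk w d hd hd' fun s m h1 h2 =>
    hext _ _ _ (h1.trans (hd s).symm) (h2.trans (hd' s).symm)⟩⟩

end Groth.Agent.PushLib
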