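import Mathlib
import Groth.Agent.PushLib.Local
import Groth.Agent.PushLib.Exists

/-!
# The pushout along a closed immersion, glued from nice charts
-/

set_option autoImplicit false
universe u

open CategoryTheory AlgebraicGeometry Limits

namespace Groth.Agent.PushLib

/-- gluing a morphism from compatible maps on a family of affine opens -/
theorem exists_glue {X T : Scheme.{u}} {ι : Type u} (U : ι → X.Opens) (hU : ∀ p, IsAffineOpen (U p))
    (hc : ∀ x, ∃ p, x ∈ U p) (k : ∀ p, Spec Γ(X, U p) ⟶ T)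
    (href : ∀ p q x, x ∈ U p → x ∈ U q → ∃ r, ∃ (hp : U r ≤ U p) (hq : U r ≤ U q), x ∈ U r ∧
      Spec.map (X.presheaf.map (homOfLE hp).op) ≫ k p = k r ∧ Spec.map (X.presheaf.map (homOfLE hq).op) ≫ k q = k r) :
    ∃ a : X ⟶ T, ∀ p, (hU p).fromSpec ≫ a = k p := by
  let 𝒰 : X.OpenCover := Scheme.Cover.mkOfCovers ι (fun p => Spec Γ(X, U p)) (fun p => (hU p).fromSpec)
    (fun x => by
      obtain ⟨p, hx⟩ := hc x
      obtain ⟨y, hy⟩ : x ∈ Set.range (hU p).fromSpec := by rw [(hU p).range_fromSpec]; exact hx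
      exact ⟨p, y, hy⟩)
    (fun p => show IsOpenImmersion (hU p).fromSpec from inferInstance)
  refine ⟨Scheme.Cover.glueMorphisms 𝒰 k fun p q => ?_, fun p => Scheme.Cover.ι_glueMorphisms 𝒰 k _ p⟩
  show pullback.fst (hU p).fromSpec (hU q).fromSpec ≫ k p = pullback.snd (hU p).fromSpec (hU q).fromSpec ≫ k q
  let π := pullback.fst (hU p).fromSpec (hU q).fromSpec ≫ (hU p).fromSpec
  have hp' : ∀ z, π z ∈ U p := fun z => by
    have := Set.mem_range_self (f := (hU p).fromSpec) (pullback.fst (hU p).fromSpec (hU q).fromSpec z)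
    rwa [(hU p).range_fromSpec] at this
  have hq' : ∀ z, π z ∈ U q := fun z => by
    have := Set.mem_range_self (f := (hU q).fromSpec) (pullback.snd (hU p).fromSpec (hU q).fromSpec z)
    rw [(hU q).range_fromSpec] at this
    simpa [π, pullback.condition] using this
  choose r hrp hrq hrx hkp hkq using fun z => href p q (π z) (hp' z) (hq' z)
  let f : ∀ z, Spec Γ(X, U (r z)) ⟶ pullback (hU p).fromSpec (hU q).fromSpec := fun z =>
    pullback.lift (Spec.map (X.presheaf.map (homOfLE (hrp z)).op)) (Spec.map (X.presheaf.map (homOfLE (hrq z)).op))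
      (by rw [IsAffineOpen.map_fromSpec (hV := hU (r z)), IsAffineOpen.map_fromSpec (hV := hU (r z))])
  have hf : ∀ z, f z ≫ π = (hU (r z)).fromSpec := fun z => by
    rw [← Category.assoc, pullback.lift_fst, IsAffineOpen.map_fromSpec (hV := hU (r z))]
  let 𝒱 : (pullback (hU p).fromSpec (hU q).fromSpec).OpenCover :=
    Scheme.Cover.mkOfCovers _ (fun z => Spec Γ(X, U (r z))) f
      (fun z => by
        obtain ⟨y, hy⟩ : π z ∈ Set.range (hU (r z)).fromSpec := by rw [(hU _).range_fromSpec]; exact hrx z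
        refine ⟨z, y, π.isOpenEmbedding.injective ?_⟩
        rw [← hy, ← hf z]; rfl)
      (fun z => by
        haveI : IsOpenImmersion (f z ≫ π) := by rw [hf]; infer_instance
        exact IsOpenImmersion.of_comp (f z) π)
  refine Scheme.Cover.hom_ext 𝒱 _ _ fun z => ?_
  show f z ≫ _ = f z ≫ _
  rw [← Category.assoc, ← Category.assoc, pullback.lift_fst, pullback.lift_snd, hkp, hkq]

variable {Z X Y : Scheme.{u}} {i : Z ⟶ X} {j : Z ⟶ Y} [IsClosedImmersion i]

namespace Nice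

variable (i j) in
/-- the pushout -/
noncomputable abbrev P : Scheme.{u} := colimit (F i j)

/-- a chart of the pushout -/
noncomputable def ι (p : Nice i j) : Spec (.of p.ring) ⟶ P i j := colimit.ι (F i j) p

instance (p : Nice i j) : IsOpenImmersion p.ι := inferInstanceAs (IsOpenImmersion (colimit.ι (F i j) p))

theorem res_ι {p m : Nice i j} (h : p ≤ m) : specMap (resRing h) ≫ m.ι = p.ι :=
  colimit.w (F i j) (homOfLE h)

theorem exists_le_of_ι_eq {p q : Nice i j} {x : PrimeSpectrum p.ring} {y : PrimeSpectrum q.ring}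
    (h : p.ι x = q.ι y) : x ∈ p.W q.U q.V ∧ y ∈ q.W p.U p.V := by
  obtain ⟨r, fp, fq, z, hzp, hzq⟩ := (Scheme.IsLocallyDirected.ι_eq_ι_iff (F i j)).1 h
  have hmono : ∀ {m : Nice i j} {O₁ O₂ : X.Opens} {O₁' O₂' : Y.Opens}, O₁ ≤ O₂ → O₁' ≤ O₂' →
      m.W O₁ O₁' ⊆ m.W O₂ O₂' := fun h₁ h₂ => by
    rintro w (⟨y, hy, rfl⟩ | ⟨y, hy, rfl⟩)
    · exact Or.inl ⟨y, h₂ hy, rfl⟩
    · exact Or.inr ⟨y, h₁ hy, rfl⟩
  exact ⟨hmono (leOfHom fq).1 (leOfHom fq).2 (range_resRing (leOfHom fp) ▸ ⟨z, hzp⟩),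
    hmono (leOfHom fp).1 (leOfHom fp).2 (range_resRing (leOfHom fq) ▸ ⟨z, hzq⟩)⟩

/-- chart map from `U` -/
noncomputable def toPX (p : Nice i j) : Spec Γ(X, p.U) ⟶ P i j := specMap p.sq.v ≫ p.ι

/-- chart map from `V` -/
noncomputable def toPY (p : Nice i j) : Spec Γ(Y, p.V) ⟶ P i j := specMap p.sq.u ≫ p.ι

theorem res_toPX {r p : Nice i j} (h : r ≤ p) :
    Spec.map (X.presheaf.map (homOfLE h.1).op) ≫ p.toPX = r.toPX := by
  rw [toPX, toPX, ← res_ι h, ← Category.assoc, ← Category.assoc]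
  congr 1
  exact (hom h).specMap_v.symm

theorem res_toPY {r p : Nice i j} (h : r ≤ p) :
    Spec.map (Y.presheaf.map (homOfLE h.2).op) ≫ p.toPY = r.toPY := by
  rw [toPY, toPY, ← res_ι h, ← Category.assoc, ← Category.assoc]
  congr 1
  exact (hom h).specMap_u.symm

theorem exists_le_of_memU (p q : Nice i j) (x : X) (hp : x ∈ p.U) (hq : x ∈ q.U) :
    ∃ r : Nice i j, r ≤ p ∧ r ≤ q ∧ x ∈ r.U := by
  obtain ⟨y, rfl⟩ : x ∈ Set.range p.hU.fromSpec := by rw [p.hU.range_fromSpec]; exact hp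
  have hy : PrimeSpectrum.comap p.sq.v y ∈ p.W q.U q.V := (Set.ext_iff.1 (p.preimage_v_W _ _ q.heq) y).2 hq
  obtain ⟨r, hrp, hU, hV, hmem⟩ := p.exists_le _ _ q.heq _ hy
  refine ⟨r, hrp, ⟨hU, hV⟩, ?_⟩
  rw [range_resRing] at hmem
  exact (Set.ext_iff.1 (p.preimage_v_W _ _ r.heq) y).1 hmem

theorem exists_le_of_memV (p q : Nice i j) (x : Y) (hp : x ∈ p.V) (hq : x ∈ q.V) :
    ∃ r : Nice i j, r ≤ p ∧ r ≤ q ∧ x ∈ r.V := by
  obtain ⟨y, rfl⟩ : x ∈ Set.range p.hV.fromSpec := by rw [p.hV.range_fromSpec]; exact hp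
  have hy : PrimeSpectrum.comap p.sq.u y ∈ p.W q.U q.V := (Set.ext_iff.1 (p.preimage_u_W _ _ q.heq) y).2 hq
  obtain ⟨r, hrp, hU, hV, hmem⟩ := p.exists_le _ _ q.heq _ hy
  refine ⟨r, hrp, ⟨hU, hV⟩, ?_⟩
  rw [range_resRing] at hmem
  exact (Set.ext_iff.1 (p.preimage_u_W _ _ r.heq) y).1 hmem

theorem exists_memU (hY : ∀ y : Y, ∃ p : Nice i j, y ∈ p.V) (x : X) : ∃ p : Nice i j, x ∈ p.U := by
  by_cases hx : x ∈ Set.range i
  · obtain ⟨z, rfl⟩ := hx
    obtain ⟨p, hp⟩ := hY (j z)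
    refine ⟨p, ?_⟩
    have : z ∈ i ⁻¹ᵁ p.U := by rw [p.heq]; exact hp
    exact this
  obtain ⟨U, hU, hxU, hUc⟩ := exists_isAffineOpen_mem_and_subset (X := X) (x := x)
    (U := ⟨(Set.range i)ᶜ, i.isClosedEmbedding.isClosed_range.isOpen_compl⟩) hx
  refine ⟨⟨U, ⊥, hU, isAffineOpen_bot Y, ?_⟩, hxU⟩
  ext z
  exact iff_of_false (fun h => hUc h ⟨z, rfl⟩) (by simp)

variable (hY : ∀ y : Y, ∃ p : Nice i j, y ∈ p.V)
include hY

theorem exists_toP :
    ∃ (a : X ⟶ P i j) (b : Y ⟶ P i j), (∀ p : Nice i j, p.hU.fromSpec ≫ a = p.toPX) ∧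
      (∀ p : Nice i j, p.hV.fromSpec ≫ b = p.toPY) := by
  obtain ⟨a, ha⟩ := exists_glue (fun p : Nice i j => p.U) (fun p => p.hU) (exists_memU hY) (fun p => p.toPX)
    fun p q x hp hq => by
      obtain ⟨r, h1, h2, h3⟩ := exists_le_of_memU p q x hp hq
      exact ⟨r, h1.1, h2.1, h3, res_toPX h1, res_toPX h2⟩
  obtain ⟨b, hb⟩ := exists_glue (fun p : Nice i j => p.V) (fun p => p.hV) hY (fun p => p.toPY)
    fun p q x hp hq => by
      obtain ⟨r, h1, h2, h3⟩ := exists_le_of_memV p q x hp hq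
      exact ⟨r, h1.2, h2.2, h3, res_toPY h1, res_toPY h2⟩
  exact ⟨a, b, ha, hb⟩

/-- the glued map from `X` -/
noncomputable def a : X ⟶ P i j := (exists_toP hY).choose

/-- the glued map from `Y` -/
noncomputable def b : Y ⟶ P i j := (exists_toP hY).choose_spec.choose

theorem fromSpec_a (p : Nice i j) : p.hU.fromSpec ≫ a hY = specMap p.sq.v ≫ p.ι :=
  (exists_toP hY).choose_spec.choose_spec.1 p

theorem fromSpec_b (p : Nice i j) : p.hV.fromSpec ≫ b hY = specMap p.sq.u ≫ p.ι :=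
  (exists_toP hY).choose_spec.choose_spec.2 p

omit hY in
theorem fromSpec_i (p : Nice i j) : (p.hU.preimage i).fromSpec ≫ i = specMap p.sq.p ≫ p.hU.fromSpec := by
  have := p.hU.SpecMap_appLE_fromSpec i (p.hU.preimage i) (V := i ⁻¹ᵁ p.U) le_rfl
  simp only [Scheme.Hom.appLE_eq_app] at this
  exact this.symm

omit hY in
theorem fromSpec_j (p : Nice i j) : (p.hU.preimage i).fromSpec ≫ j = specMap p.sq.q ≫ p.hV.fromSpec :=
  (p.hV.SpecMap_appLE_fromSpec j (p.hU.preimage i) p.heq.le).symm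

theorem w : i ≫ a hY = j ≫ b hY := by
  refine hom_ext_of_fromSpec (fun p : Nice i j => i ⁻¹ᵁ p.U) (fun p => p.hU.preimage i)
    (fun z => exists_memU hY (i z)) fun p => ?_
  rw [← Category.assoc, fromSpec_i, Category.assoc, fromSpec_a, ← Category.assoc _ j, fromSpec_j, Category.assoc,
    fromSpec_b, ← Category.assoc, ← Category.assoc, p.sq.spec_w]

theorem hom_ext {T : Scheme.{u}} {K K' : P i j ⟶ T} (h1 : a hY ≫ K = a hY ≫ K') (h2 : b hY ≫ K = b hY ≫ K') :
    K = K' := by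
  refine colimit.hom_ext fun p => p.sq.hom_ext ?_ ?_
  · show specMap p.sq.u ≫ p.ι ≫ K = specMap p.sq.u ≫ p.ι ≫ K'
    rw [← Category.assoc, ← fromSpec_b hY, Category.assoc, h2, ← Category.assoc, fromSpec_b hY, Category.assoc]
  · show specMap p.sq.v ≫ p.ι ≫ K = specMap p.sq.v ≫ p.ι ≫ K'
    rw [← Category.assoc, ← fromSpec_a hY, Category.assoc, h1, ← Category.assoc, fromSpec_a hY, Category.assoc]

theorem exists_desc {T : Scheme.{u}} (c : X ⟶ T) (d : Y ⟶ T) (h : i ≫ c = j ≫ d) :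
    ∃ K, a hY ≫ K = c ∧ b hY ≫ K = d := by
  have hk : ∀ p : Nice i j, ∃ k : Spec (.of p.ring) ⟶ T,
      specMap p.sq.u ≫ k = p.hV.fromSpec ≫ d ∧ specMap p.sq.v ≫ k = p.hU.fromSpec ≫ c := fun p =>
    p.sq.exists_desc _ _ (by rw [← Category.assoc, ← fromSpec_j, ← Category.assoc, ← fromSpec_i, Category.assoc,
      Category.assoc, h])
  choose k hku hkv using hk
  have hnat : ∀ {p m : Nice i j} (hpm : p ≤ m), specMap (resRing hpm) ≫ k m = k p := by
    intro p m hpm
    refine p.sq.hom_ext ?_ ?_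
    · rw [← Category.assoc, show specMap p.sq.u ≫ specMap (resRing hpm) = _ from (hom hpm).specMap_u,
        Category.assoc, hku, hku, ← Category.assoc]
      congr 1
      exact m.hV.map_fromSpec (hV := p.hV) _
    · rw [← Category.assoc, show specMap p.sq.v ≫ specMap (resRing hpm) = _ from (hom hpm).specMap_v,
        Category.assoc, hkv, hkv, ← Category.assoc]
      congr 1
      exact m.hU.map_fromSpec (hV := p.hU) _
  let K : P i j ⟶ T := colimit.desc (F i j)
    ⟨T, ⟨fun p => k p, fun p m f => (hnat (leOfHom f)).trans (Category.comp_id _).symm⟩⟩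
  have hK : ∀ p : Nice i j, p.ι ≫ K = k p := fun p => colimit.ι_desc _ p
  refine ⟨K, ?_, ?_⟩
  · refine hom_ext_of_fromSpec (fun p : Nice i j => p.U) (fun p => p.hU) (exists_memU hY) fun p => ?_
    rw [← Category.assoc, fromSpec_a, Category.assoc, hK, hkv]
  · refine hom_ext_of_fromSpec (fun p : Nice i j => p.V) (fun p => p.hV) hY fun p => ?_
    rw [← Category.assoc, fromSpec_b, Category.assoc, hK, hku]

/-- **Existence of the pushout.** -/
theorem isPushout : IsPushout i j (a hY) (b hY) := by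
  choose d hd hd' using fun s : PushoutCocone i j => exists_desc hY s.inl s.inr s.condition
  exact ⟨⟨w hY⟩, ⟨PushoutCocone.IsColimit.mk (w hY) d hd hd' fun s m h1 h2 =>
    hom_ext hY (h1.trans (hd s).symm) (h2.trans (hd' s).symm)⟩⟩

theorem preimage_a (p : Nice i j) : a hY ⁻¹ᵁ p.ι.opensRange = p.U := by
  ext x
  constructor
  · rintro ⟨w, hw⟩
    obtain ⟨q, hq⟩ := exists_memU hY x
    obtain ⟨y, rfl⟩ : x ∈ Set.range q.hU.fromSpec := by rw [q.hU.range_fromSpec]; exact hq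
    have h1 : a hY (q.hU.fromSpec y) = q.ι (PrimeSpectrum.comap q.sq.v y) :=
      congrArg (fun f : _ ⟶ P i j => f y) (fromSpec_a hY q)
    exact (Set.ext_iff.1 (q.preimage_v_W _ _ p.heq) y).1 (exists_le_of_ι_eq (hw.trans h1).symm).1
  · intro hx
    obtain ⟨y, rfl⟩ : x ∈ Set.range p.hU.fromSpec := by rw [p.hU.range_fromSpec]; exact hx
    exact ⟨PrimeSpectrum.comap p.sq.v y, (congrArg (fun f : _ ⟶ P i j => f y) (fromSpec_a hY p)).symm⟩

theorem preimage_b (p : Nice i j) : b hY ⁻¹ᵁ p.ι.opensRange = p.V := by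
  ext x
  constructor
  · rintro ⟨w, hw⟩
    obtain ⟨q, hq⟩ := hY x
    obtain ⟨y, rfl⟩ : x ∈ Set.range q.hV.fromSpec := by rw [q.hV.range_fromSpec]; exact hq
    have h1 : b hY (q.hV.fromSpec y) = q.ι (PrimeSpectrum.comap q.sq.u y) :=
      congrArg (fun f : _ ⟶ P i j => f y) (fromSpec_b hY q)
    exact (Set.ext_iff.1 (q.preimage_u_W _ _ p.heq) y).1 (exists_le_of_ι_eq (hw.trans h1).symm).1
  · intro hx
    obtain ⟨y, rfl⟩ : x ∈ Set.range p.hV.fromSpec := by rw [p.hV.range_fromSpec]; exact hx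
    exact ⟨PrimeSpectrum.comap p.sq.u y, (congrArg (fun f : _ ⟶ P i j => f y) (fromSpec_b hY p)).symm⟩

theorem isPullback_a (p : Nice i j) : IsPullback (specMap p.sq.v) p.hU.fromSpec p.ι (a hY) :=
  IsOpenImmersion.isPullback _ _ _ _ (fromSpec_a hY p) (by rw [preimage_a, p.hU.opensRange_fromSpec])

theorem isPullback_b (p : Nice i j) : IsPullback (specMap p.sq.u) p.hV.fromSpec p.ι (b hY) :=
  IsOpenImmersion.isPullback _ _ _ _ (fromSpec_b hY p) (by rw [preimage_b, p.hV.opensRange_fromSpec])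

/-- the charts cover -/
noncomputable def cover : (P i j).OpenCover := Scheme.IsLocallyDirected.openCover (F i j)

theorem of_charts_a (Q : MorphismProperty Scheme.{u}) [IsZariskiLocalAtTarget Q]
    (h : ∀ p : Nice i j, Q (specMap p.sq.v)) : Q (a hY) := by
  refine IsZariskiLocalAtTarget.of_openCover (cover (i := i) (j := j)) fun k => ?_
  have hpb := (isPullback_a hY k).flip
  have e : (hpb.isoPullback).hom ≫ pullback.snd _ _ = specMap k.sq.v := hpb.isoPullback_hom_snd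
  show Q (pullback.snd (a hY) k.ι)
  rw [← Q.cancel_left_of_respectsIso hpb.isoPullback.hom, e]
  exact h k

theorem of_charts_b (Q : MorphismProperty Scheme.{u}) [IsZariskiLocalAtTarget Q]
    (h : ∀ p : Nice i j, Q (specMap p.sq.u)) : Q (b hY) := by
  refine IsZariskiLocalAtTarget.of_openCover (cover (i := i) (j := j)) fun k => ?_
  have hpb := (isPullback_b hY k).flip
  show Q (pullback.snd (b hY) k.ι)
  rw [← Q.cancel_left_of_respectsIso hpb.isoPullback.hom, hpb.isoPullback_hom_snd]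
  exact h k

theorem isClosedImmersion_b : IsClosedImmersion (b hY) :=
  of_charts_b hY @IsClosedImmersion fun p => IsClosedImmersion.spec_of_surjective _ p.sq.u_surjective

theorem isAffineHom_a : IsAffineHom (a hY) :=
  of_charts_a hY @IsAffineHom fun _ => inferInstance

end Nice

end Groth.Agent.PushLib
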