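import Mathlib
import Groth.Agent.PushLib.Pushout
import Groth.Agent.ChevLib.Main

/-!
# Properties of the pushout; existence of nice pairs
-/

set_option autoImplicit false
universe u

open CategoryTheory AlgebraicGeometry Limits

namespace Groth.Agent.PushLib

namespace FibSq

variable {B' B A' A : Type u} [CommRing B'] [CommRing B] [CommRing A'] [CommRing A] (S : FibSq B' B A' A)

theorem isPullback :
    IsPullback (specMap S.p) (specMap S.q) (specMap S.v) (specMap S.u) := by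
  refine isPullback_SpecMap_of_isPushout _ _ _ _ ?_
  have w : CommRingCat.ofHom S.v ≫ CommRingCat.ofHom S.p = CommRingCat.ofHom S.u ≫ CommRingCat.ofHom S.q := by
    ext x; exact (S.w x).symm
  have hker : ∀ (s : PushoutCocone (CommRingCat.ofHom S.v) (CommRingCat.ofHom S.u)) (x : A'),
      S.p x = 0 → s.inl.hom x = 0 := fun s x hx => by
    obtain ⟨z, hz0, hzx⟩ := S.lift 0 x (by rw [map_zero, hx])
    have h := congrArg (fun f : CommRingCat.of B' ⟶ s.pt => f.hom z) s.condition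
    change s.inl.hom (S.v z) = s.inr.hom (S.u z) at h
    rw [hzx, hz0, map_zero] at h
    exact h
  let χ : ∀ s : PushoutCocone (CommRingCat.ofHom S.v) (CommRingCat.ofHom S.u), A →+* s.pt := fun s =>
    S.p.liftOfSurjective S.surj ⟨s.inl.hom, fun x hx => hker s x hx⟩
  have hχ : ∀ s x, χ s (S.p x) = s.inl.hom x := fun s x => RingHom.liftOfRightInverse_comp_apply _ _ _ _ _
  refine IsPushout.of_isColimit (c := PushoutCocone.mk (CommRingCat.ofHom S.p) (CommRingCat.ofHom S.q) w)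
    (PushoutCocone.IsColimit.mk w (fun s => CommRingCat.ofHom (χ s)) (fun s => ?_) (fun s => ?_) fun s m h1 h2 => ?_)
  · ext x; exact hχ s x
  · ext b
    obtain ⟨z, rfl⟩ := S.u_surjective b
    show χ s (S.q (S.u z)) = s.inr.hom (S.u z)
    rw [S.w, hχ]
    exact congrArg (fun f : CommRingCat.of B' ⟶ s.pt => f.hom z) s.condition
  · ext x
    obtain ⟨a, rfl⟩ := S.surj x
    exact ((congrArg (fun f : CommRingCat.of A' ⟶ s.pt => f.hom a) h1).trans (hχ s a).symm :)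

theorem v_isIntegral (h : S.q.IsIntegral) : S.v.IsIntegral := by
  classical
  intro x
  obtain ⟨P, hP, hPx⟩ := h (S.p x)
  have hP' : P ∈ Polynomial.lifts S.u := Polynomial.lifts_iff_coeff_lifts P |>.2 fun n =>
    S.u_surjective _
  obtain ⟨Q, hQ, -, hQm⟩ := Polynomial.lifts_and_natDegree_eq_and_monic hP' hP
  have hv : S.p (Q.eval₂ S.v x) = 0 := by
    rw [Polynomial.hom_eval₂, show S.p.comp S.v = S.q.comp S.u from RingHom.ext fun z => (S.w z).symm,
      ← Polynomial.eval₂_map, hQ]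
    exact hPx
  obtain ⟨c, hc0, hc⟩ := S.lift 0 (Q.eval₂ S.v x) (by rw [map_zero, hv])
  rcases eq_or_ne Q.natDegree 0 with hd | hd
  · rw [Polynomial.eq_one_of_monic_natDegree_zero hQm hd, Polynomial.map_one] at hQ
    rw [← hQ, Polynomial.eval₂_one] at hPx
    obtain ⟨c, hc0, hc⟩ := S.lift 0 x (by
      rw [map_zero]; exact (eq_zero_of_zero_eq_one hPx.symm _).symm)
    exact hc ▸ RingHom.isIntegralElem_map S.v
  refine ⟨Q - Polynomial.C c, hQm.sub_of_left (lt_of_le_of_lt Polynomial.degree_C_le ?_), by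
    rw [Polynomial.eval₂_sub, Polynomial.eval₂_C, hc, sub_self]⟩
  exact Polynomial.natDegree_pos_iff_degree_pos.1 (Nat.pos_of_ne_zero hd)

end FibSq

theorem surjective_res {Z : Scheme.{u}} {U V : Z.Opens} (h : U = V) :
    Function.Surjective (Z.presheaf.map (homOfLE h.le).op) := by
  subst h
  intro x
  exact ⟨x, by simp⟩

namespace Nice

variable {Z X Y : Scheme.{u}} {i : Z ⟶ X} {j : Z ⟶ Y} [IsClosedImmersion i]
variable (hY : ∀ y : Y, ∃ p : Nice i j, y ∈ p.V)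
include hY

theorem isPullback : IsPullback i j (a hY) (b hY) := by
  have hex : ∀ s : PullbackCone (a hY) (b hY), ∃ t : s.pt ⟶ Z, t ≫ i = s.fst ∧ t ≫ j = s.snd := by
    intro s
    let 𝒰 := (cover (i := i) (j := j)).pullback₁ (s.fst ≫ a hY)
    have hloc : ∀ p, ∃ t : 𝒰.X p ⟶ Z, t ≫ i = 𝒰.f p ≫ s.fst ∧ t ≫ j = 𝒰.f p ≫ s.snd := by
      intro p
      let π₁ : pullback (s.fst ≫ a hY) p.ι ⟶ s.pt := pullback.fst _ _
      let π₂ := pullback.snd (s.fst ≫ a hY) p.ι
      have h1 : π₂ ≫ p.ι = (π₁ ≫ s.fst) ≫ a hY := by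
        rw [Category.assoc]; exact pullback.condition.symm
      have h2 : π₂ ≫ p.ι = (π₁ ≫ s.snd) ≫ b hY := by
        rw [h1, Category.assoc, Category.assoc]
        exact congrArg (fun f => π₁ ≫ f) s.condition
      let lx := (isPullback_a hY p).lift π₂ (π₁ ≫ s.fst) h1
      let ly := (isPullback_b hY p).lift π₂ (π₁ ≫ s.snd) h2
      have hxy : lx ≫ specMap p.sq.v = ly ≫ specMap p.sq.u := by
        rw [(isPullback_a hY p).lift_fst, (isPullback_b hY p).lift_fst]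
      refine ⟨p.sq.isPullback.lift lx ly hxy ≫ (p.hU.preimage i).fromSpec, ?_, ?_⟩
      · rw [Category.assoc, fromSpec_i, ← Category.assoc, p.sq.isPullback.lift_fst]
        exact (isPullback_a hY p).lift_snd _ _ _
      · rw [Category.assoc, fromSpec_j, ← Category.assoc, p.sq.isPullback.lift_snd]
        exact (isPullback_b hY p).lift_snd _ _ _
    choose t ht htj using hloc
    refine ⟨Scheme.Cover.glueMorphisms 𝒰 t fun p q => ?_, ?_, ?_⟩
    · rw [← cancel_mono i, Category.assoc, Category.assoc, ht, ht, ← Category.assoc, ← Category.assoc, pullback.condition]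
    · refine Scheme.Cover.hom_ext 𝒰 _ _ fun p => ?_
      rw [← Category.assoc, Scheme.Cover.ι_glueMorphisms, ht]
    · refine Scheme.Cover.hom_ext 𝒰 _ _ fun p => ?_
      rw [← Category.assoc, Scheme.Cover.ι_glueMorphisms, htj]
  choose t ht htj using hex
  refine ⟨⟨w hY⟩, ⟨PullbackCone.IsLimit.mk (w hY) t ht htj fun s m h1 _ => ?_⟩⟩
  rw [← cancel_mono i, ht, h1]

theorem isIntegralHom_a [IsIntegralHom j] : IsIntegralHom (a hY) :=
  of_charts_a hY @IsIntegralHom fun p => by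
    refine IsIntegralHom.SpecMap_iff.2 (p.sq.v_isIntegral ?_)
    exact RingHom.IsIntegral.trans (j.app p.V).hom (Z.presheaf.map (homOfLE p.heq.le).op).hom
      (IsIntegralHom.isIntegral_app j p.V p.hV)
      (RingHom.isIntegral_of_surjective _ (surjective_res p.heq))

theorem isClosedImmersion_a [IsClosedImmersion j] : IsClosedImmersion (a hY) :=
  of_charts_a hY @IsClosedImmersion fun p => IsClosedImmersion.spec_of_surjective _ fun x => by
    obtain ⟨b', hb⟩ := ((surjective_res p.heq).comp (j.app_surjective p.V p.hV)) (p.sq.p x)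
    obtain ⟨z, -, hz⟩ := p.sq.lift b' x hb
    exact ⟨z, hz⟩

end Nice

section nice

variable {Z X Y : Scheme.{u}} (i : Z ⟶ X) (j : Z ⟶ Y) [IsClosedImmersion i]

theorem mem_basicOpen_iff_evaluation {Z : Scheme.{u}} {U : Z.Opens} {z : Z} (hz : z ∈ U) (f : Γ(Z, U)) :
    z ∈ Z.basicOpen f ↔ Z.evaluation U z hz f ≠ 0 := (Z.evaluation_ne_zero_iff_mem_basicOpen z hz f).symm

open Polynomial in
/-- on the integral fibre over `y` a function's zero set is cut out by a function -/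
theorem exists_complement [IsIntegralHom j] {V : Y.Opens} (hV : IsAffineOpen V) (y : Y) (hy : y ∈ V)
    (a : Γ(Z, j ⁻¹ᵁ V)) :
    ∃ z : Γ(Z, j ⁻¹ᵁ V), ∀ P, j P = y → (P ∈ Z.basicOpen z ↔ P ∉ Z.basicOpen a) := by
  classical
  obtain ⟨Q, hQm, hQ⟩ := IsIntegralHom.isIntegral_app j V hV a
  obtain ⟨m, hm, hmin⟩ : ∃ m, y ∈ Y.basicOpen (Q.coeff m) ∧ ∀ k < m, y ∉ Y.basicOpen (Q.coeff k) := by
    have h : ∃ m, y ∈ Y.basicOpen (Q.coeff m) := ⟨Q.natDegree, by
      rw [hQm.coeff_natDegree, Y.basicOpen_of_isUnit isUnit_one]; exact hy⟩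
    exact ⟨Nat.find h, Nat.find_spec h, fun k hk => Nat.find_min h hk⟩
  refine ⟨∑ k ∈ Finset.range (Q.natDegree + 1), if m ≤ k then (j.app V).hom (Q.coeff k) * a ^ (k - m) else 0, fun P hP => ?_⟩
  have hPV : P ∈ j ⁻¹ᵁ V := show j P ∈ V from hP.symm ▸ hy
  let e := (Z.evaluation (j ⁻¹ᵁ V) P hPV).hom
  have hb : ∀ k, e ((j.app V).hom (Q.coeff k)) ≠ 0 ↔ y ∈ Y.basicOpen (Q.coeff k) := fun k => by
    rw [← mem_basicOpen_iff_evaluation hPV, ← Scheme.preimage_basicOpen]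
    show j P ∈ Y.basicOpen (Q.coeff k) ↔ _
    rw [hP]
  rw [mem_basicOpen_iff_evaluation hPV, mem_basicOpen_iff_evaluation hPV, not_not]
  show e _ ≠ 0 ↔ e a = 0
  rw [map_sum]
  have hsum : (∑ k ∈ Finset.range (Q.natDegree + 1), e (if m ≤ k then (j.app V).hom (Q.coeff k) * a ^ (k - m) else 0)) * e a ^ m = 0 := by
    rw [Finset.sum_mul]
    have h0 : e (Q.eval₂ (j.app V).hom a) = 0 := by
      rw [show Q.eval₂ (j.app V).hom a = 0 from hQ, map_zero]
    rw [Polynomial.eval₂_eq_sum_range, map_sum] at h0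
    refine (Finset.sum_congr rfl fun k _ => ?_).trans h0
    by_cases hk : m ≤ k
    · rw [if_pos hk, map_mul, map_pow, mul_assoc, ← pow_add, Nat.sub_add_cancel hk, map_mul, map_pow]
    · rw [if_neg hk, map_zero, zero_mul, map_mul, not_not.1 fun h => hmin k (not_le.1 hk) ((hb k).1 h), zero_mul]
  have hmle : m < Q.natDegree + 1 := by
    by_contra h
    have hh := (hb m).2 hm
    rw [Polynomial.coeff_eq_zero_of_natDegree_lt (by omega), map_zero, map_zero] at hh
    exact hh rfl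
  constructor
  · intro hz
    by_contra ha
    exact hz ((mul_eq_zero.1 hsum).resolve_right (pow_ne_zero _ ha))
  · intro ha
    rw [Finset.sum_eq_single_of_mem m (Finset.mem_range.2 hmle) fun k _ hk => by
      by_cases hmk : m ≤ k
      · rw [if_pos hmk, map_mul, map_pow, ha, zero_pow (by omega), mul_zero]
      · rw [if_neg hmk, map_zero], if_pos le_rfl, Nat.sub_self, pow_zero, mul_one]
    exact (hb m).2 hm

theorem exists_extend {U : Z.Opens} (hU : IsAffineOpen U) (x : Γ(Z, U)) {O : Z.Opens} (hO : Z.basicOpen x ≤ O)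
    (s : Γ(Z, O)) :
    ∃ c : Γ(Z, U), ∀ P ∈ Z.basicOpen x, (P ∈ Z.basicOpen c ↔ P ∈ Z.basicOpen s) := by
  haveI := hU.isLocalization_basicOpen x
  obtain ⟨⟨c, ⟨_, n, rfl⟩⟩, hc⟩ := IsLocalization.surj (M := Submonoid.powers x)
    ((Z.presheaf.map (homOfLE hO).op).hom s)
  refine ⟨c, fun P hP => ?_⟩
  have h := congrArg (Z.basicOpen ·) hc
  simp only [Scheme.basicOpen_mul] at h
  rw [RingHom.algebraMap_toAlgebra, Scheme.basicOpen_res, Scheme.basicOpen_res, Scheme.basicOpen_res] at h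
  have hu : P ∈ Z.basicOpen x ⊓ Z.basicOpen (x ^ n) := by
    refine ⟨hP, ?_⟩
    rcases Nat.eq_zero_or_pos n with rfl | hn
    · rw [pow_zero, Z.basicOpen_of_isUnit isUnit_one]; exact Z.basicOpen_le x hP
    · rw [Z.basicOpen_pow _ hn]; exact hP
  rw [TopologicalSpace.Opens.ext_iff, Set.ext_iff] at h
  have := h P
  simp only [TopologicalSpace.Opens.coe_inf, Set.mem_inter_iff, SetLike.mem_coe] at this
  exact ⟨fun hc' => ((this.2 ⟨hP, hc'⟩).1).2, fun hs => (this.1 ⟨⟨hP, hs⟩, hu⟩).2⟩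

/-- nice pairs exist around every point when fibres of the integral map lie in affine opens -/
theorem exists_nice [IsIntegralHom j] (y : Y) (U : X.Opens) (hU : IsAffineOpen U)
    (hfib : ∀ z, j z = y → i z ∈ U) : ∃ p : Nice i j, y ∈ p.V ∧ p.U ≤ U := by
  classical
  have hUc : IsClosed (((i ⁻¹ᵁ U : Z.Opens) : Set Z)ᶜ) := (i ⁻¹ᵁ U).2.isClosed_compl
  obtain ⟨V, hV, hyV, hVsub⟩ := exists_isAffineOpen_mem_and_subset (X := Y) (x := y)
    (U := ⟨(j '' ((i ⁻¹ᵁ U : Z.Opens) : Set Z)ᶜ)ᶜ, (j.isClosedMap _ hUc).isOpen_compl⟩)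
    (by rintro ⟨z, hz, hzy⟩; exact hz (hfib z hzy))
  have hVU : j ⁻¹ᵁ V ≤ i ⁻¹ᵁ U := fun z hz => by
    by_contra h
    exact hVsub hz ⟨z, h, rfl⟩
  have hA : IsAffineOpen (i ⁻¹ᵁ U) := hU.preimage i
  have hK : IsCompact {z : Z | j z = y} := by
    have := isCompact_range (j.fiberι y).continuous
    rwa [Scheme.Hom.range_fiberι] at this
  let κ := {x : Γ(Z, i ⁻¹ᵁ U) // Z.basicOpen x ≤ j ⁻¹ᵁ V}
  obtain ⟨t, ht⟩ := hK.elim_finite_subcover (fun x : κ => ((Z.basicOpen x.1 : Z.Opens) : Set Z)) (fun x => (Z.basicOpen x.1).2)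
    (fun z hz => by
      have hzV : z ∈ j ⁻¹ᵁ V := show j z ∈ V from hz.symm ▸ hyV
      obtain ⟨f, hf, hzf⟩ := hA.exists_basicOpen_le (V := j ⁻¹ᵁ V) ⟨z, hzV⟩ (hVU hzV)
      exact Set.mem_iUnion.2 ⟨⟨f, hf⟩, hzf⟩)
  obtain ⟨g, hgV, hg⟩ : ∃ g : Γ(Z, i ⁻¹ᵁ U), Z.basicOpen g ≤ j ⁻¹ᵁ V ∧
      ∀ x ∈ t, ∀ z, j z = y → z ∈ Z.basicOpen x.1 → z ∈ Z.basicOpen g := by
    clear ht
    induction t using Finset.induction_on with
    | empty => exact ⟨0, by simp, by simp⟩
    | insert x t _ ih =>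
      obtain ⟨g, hgV, hg⟩ := ih
      obtain ⟨w, hw⟩ := exists_complement j hV y hyV ((Z.presheaf.map (homOfLE hVU).op).hom g)
      obtain ⟨c, hc⟩ := exists_extend hA x.1 x.2 w
      refine ⟨g + c * x.1, (Z.basicOpen_add_le g (c * x.1)).trans (sup_le hgV ?_), fun x' hx' z hzy hz => ?_⟩
      · rw [Z.basicOpen_mul]; exact inf_le_right.trans x.2
      have hzV : z ∈ j ⁻¹ᵁ V := show j z ∈ V from hzy.symm ▸ hyV
      have hzA := hVU hzV
      rw [mem_basicOpen_iff_evaluation hzA, map_add, map_mul]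
      have hwg : z ∈ Z.basicOpen w ↔ z ∉ Z.basicOpen g := by
        rw [hw z hzy, Scheme.basicOpen_res]
        exact not_congr ⟨fun h => h.2, fun h => ⟨hzV, h⟩⟩
      by_cases hzg : z ∈ Z.basicOpen g
      · have h0 : Z.evaluation _ z hzA c * Z.evaluation _ z hzA x.1 = 0 := by
          by_cases hzx : z ∈ Z.basicOpen x.1
          · rw [(Z.evaluation_eq_zero_iff_notMem_basicOpen z hzA c).2 (fun h => (hwg.1 ((hc z hzx).1 h)) hzg), zero_mul]
          · rw [(Z.evaluation_eq_zero_iff_notMem_basicOpen z hzA x.1).2 hzx, mul_zero]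
        rw [h0, add_zero]; exact (mem_basicOpen_iff_evaluation hzA g).1 hzg
      · rw [(Z.evaluation_eq_zero_iff_notMem_basicOpen z hzA g).2 hzg, zero_add]
        have hzx : z ∈ Z.basicOpen x.1 := by
          rcases Finset.mem_insert.1 hx' with rfl | hx''
          · exact hz
          · exact absurd (hg x' hx'' z hzy hz) hzg
        exact mul_ne_zero ((mem_basicOpen_iff_evaluation hzA c).1 ((hc z hzx).2 (hwg.2 hzg)))
          ((mem_basicOpen_iff_evaluation hzA x.1).1 hzx)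
  have hKg : ∀ z, j z = y → z ∈ Z.basicOpen g := fun z hz => by
    obtain ⟨x, hx, hzx⟩ := Set.mem_iUnion₂.1 (ht hz)
    exact hg x hx z hz hzx
  obtain ⟨h, hhsub, hyh⟩ := hV.exists_basicOpen_le (V := V ⊓ ⟨(j '' ((Z.basicOpen g : Z.Opens) : Set Z)ᶜ)ᶜ,
      (j.isClosedMap _ (Z.basicOpen g).2.isClosed_compl).isOpen_compl⟩)
    ⟨y, hyV, by rintro ⟨z, hz, hzy⟩; exact hz (hKg z hzy)⟩ hyV
  have hsub : j ⁻¹ᵁ Y.basicOpen h ≤ Z.basicOpen g := fun z hz => by
    by_contra hh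
    exact (hhsub hz).2 ⟨z, hh, rfl⟩
  obtain ⟨g', hg'⟩ := i.app_surjective U hU g
  have hpre : i ⁻¹ᵁ X.basicOpen g' = Z.basicOpen g := by rw [Scheme.preimage_basicOpen, hg']
  have hle : i ⁻¹ᵁ X.basicOpen g' ≤ j ⁻¹ᵁ V := hpre.le.trans hgV
  obtain ⟨h', hh'⟩ := i.app_surjective _ (hU.basicOpen g') (j.appLE V _ hle h)
  refine ⟨⟨X.basicOpen h', Y.basicOpen h, (hU.basicOpen g').basicOpen _, hV.basicOpen h, ?_⟩, hyh,
    (X.basicOpen_le h').trans (X.basicOpen_le g')⟩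
  rw [Scheme.preimage_basicOpen, hh', Scheme.Hom.appLE, CommRingCat.comp_apply, Scheme.basicOpen_res,
    ← Scheme.preimage_basicOpen, inf_eq_right, hpre]
  exact hsub

theorem exists_nice_of_closedImmersion [IsClosedImmersion j] (y : Y) : ∃ p : Nice i j, y ∈ p.V := by
  by_cases hy : y ∈ Set.range j
  · obtain ⟨z, rfl⟩ := hy
    obtain ⟨U, hU, hzU, -⟩ := exists_isAffineOpen_mem_and_subset (X := X) (x := i z) (U := ⊤) trivial
    obtain ⟨p, hp, -⟩ := exists_nice i j (j z) U hU fun w hw => j.isClosedEmbedding.injective hw ▸ hzU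
    exact ⟨p, hp⟩
  · obtain ⟨p, hp, -⟩ := exists_nice i j y ⊥ (isAffineOpen_bot X) fun w hw => absurd ⟨w, hw⟩ hy
    exact ⟨p, hp⟩

theorem exists_nice_of_thickening [Surjective i] [IsAffineHom j] (y : Y) : ∃ p : Nice i j, y ∈ p.V := by
  obtain ⟨V, hV, hyV, -⟩ := exists_isAffineOpen_mem_and_subset (X := Y) (x := y) (U := ⊤) trivial
  obtain ⟨O, hO, hOV⟩ := i.isClosedEmbedding.isEmbedding.toIsInducing.isOpen_iff.1 (j ⁻¹ᵁ V).2
  let U : X.Opens := ⟨O, hO⟩
  have hpre : i ⁻¹ᵁ U = j ⁻¹ᵁ V := TopologicalSpace.Opens.ext hOV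
  have hZ : IsAffineOpen (i ⁻¹ᵁ U) := hpre ▸ hV.preimage j
  haveI : IsAffine (i ⁻¹ᵁ U).toScheme := hZ
  haveI : Surjective (i ∣_ U) := IsZariskiLocalAtTarget.restrict ‹_› U
  haveI : IsClosedImmersion (i ∣_ U) := IsZariskiLocalAtTarget.restrict ‹_› U
  exact ⟨⟨U, V, ChevLib.isAffine_of_surjective_universallyClosed (i ∣_ U), hV, hpre⟩, hyV⟩

end nice

end Groth.Agent.PushLib
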