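import Mathlib
import Groth.Agent.PushLib.Props

/-!
# Transfer of the explicit pushout to an arbitrary pushout; avoiding finitely many points
-/

set_option autoImplicit false
universe u

open CategoryTheory AlgebraicGeometry Limits

namespace Groth.Agent.PushLib

variable {Z X Y P : Scheme.{u}} {i : Z ⟶ X} {j : Z ⟶ Y} {a : X ⟶ P} {b : Y ⟶ P} [IsClosedImmersion i]

/-- the comparison isomorphism -/
noncomputable def Nice.iso (hY : ∀ y : Y, ∃ p : Nice i j, y ∈ p.V) (hP : IsPushout i j a b) : Nice.P i j ≅ P :=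
  (Nice.isPushout hY).isoIsPushout _ _ hP

theorem Nice.a_iso (hY : ∀ y : Y, ∃ p : Nice i j, y ∈ p.V) (hP : IsPushout i j a b) :
    Nice.a hY ≫ (Nice.iso hY hP).hom = a := IsPushout.inl_isoIsPushout_hom _ _ _ _

theorem Nice.b_iso (hY : ∀ y : Y, ∃ p : Nice i j, y ∈ p.V) (hP : IsPushout i j a b) :
    Nice.b hY ≫ (Nice.iso hY hP).hom = b := IsPushout.inr_isoIsPushout_hom _ _ _ _

theorem isPullback_of_isPushout (hY : ∀ y : Y, ∃ p : Nice i j, y ∈ p.V) (hP : IsPushout i j a b) :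
    IsPullback i j a b :=
  (Nice.isPullback hY).of_iso (Iso.refl _) (Iso.refl _) (Iso.refl _) (Nice.iso hY hP) (by simp) (by simp)
    (by simp [Nice.a_iso]) (by simp [Nice.b_iso])

theorem isClosedImmersion_of_isPushout (hY : ∀ y : Y, ∃ p : Nice i j, y ∈ p.V) (hP : IsPushout i j a b) :
    IsClosedImmersion b := by
  rw [← Nice.b_iso hY hP]
  haveI := Nice.isClosedImmersion_b hY
  infer_instance

theorem isIntegralHom_of_isPushout [IsIntegralHom j] (hY : ∀ y : Y, ∃ p : Nice i j, y ∈ p.V) (hP : IsPushout i j a b) :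
    IsIntegralHom a := by
  rw [← Nice.a_iso hY hP]
  haveI := Nice.isIntegralHom_a hY
  infer_instance

theorem isAffineHom_of_isPushout (hY : ∀ y : Y, ∃ p : Nice i j, y ∈ p.V) (hP : IsPushout i j a b) :
    IsAffineHom a := by
  rw [← Nice.a_iso hY hP]
  haveI := Nice.isAffineHom_a hY
  infer_instance

section avoid

/-- coset prime avoidance -/
theorem exists_add_notMem {R : Type u} [CommRing R] (I : Ideal R) (r : R) (F : Set (PrimeSpectrum R)) (hF : F.Finite)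
    (h : ∀ P ∈ F, I ≤ P.asIdeal → r ∉ P.asIdeal) : ∃ m ∈ I, ∀ P ∈ F, r + m ∉ P.asIdeal := by
  classical
  let M := hF.toFinset.filter fun P => ∀ Q ∈ F, P.asIdeal ≤ Q.asIdeal → Q = P
  let S := M.filter fun P => r ∈ P.asIdeal
  let T := M.filter fun P => r ∉ P.asIdeal
  obtain ⟨m, hm, hmS⟩ : ∃ m ∈ (I ⊓ T.inf fun P => P.asIdeal : Ideal R), ∀ P ∈ S, m ∉ P.asIdeal := by
    rcases S.eq_empty_or_nonempty with hS | ⟨P₀, hP₀⟩
    · exact ⟨0, Submodule.zero_mem _, fun P hP => absurd hP (by simp [hS])⟩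
    by_contra hc
    push Not at hc
    have hsub : ((I ⊓ T.inf fun P => P.asIdeal : Ideal R) : Set R) ⊆ ⋃ P ∈ (↑S : Set (PrimeSpectrum R)), (P.asIdeal : Set R) :=
      fun m hm => by
        obtain ⟨P, hP, hmP⟩ := hc m hm
        exact Set.mem_biUnion hP hmP
    obtain ⟨P, hP, hle⟩ := (Ideal.subset_union_prime (f := fun P : PrimeSpectrum R => P.asIdeal)
      P₀ P₀ (fun P _ _ _ => P.isPrime)).1 hsub
    simp only [S, M, Finset.mem_filter, Set.Finite.mem_toFinset] at hP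
    rcases P.isPrime.inf_le.1 hle with hI | hT
    · exact h P hP.1.1 hI hP.2
    obtain ⟨Q, hQ, hQP⟩ := (Ideal.IsPrime.inf_le' P.isPrime).1 hT
    simp only [T, M, Finset.mem_filter, Set.Finite.mem_toFinset] at hQ
    exact hQ.2 (hQ.1.2 P hP.1.1 hQP ▸ hP.2)
  refine ⟨m, hm.1, fun P hP => ?_⟩
  obtain ⟨Q, hPQ, hQM⟩ := Set.Finite.exists_le_maximal hF hP
  have hQ : Q ∈ M := Finset.mem_filter.2 ⟨hF.mem_toFinset.2 hQM.1, fun Q' hQ' hle =>
    PrimeSpectrum.ext (le_antisymm (hQM.2 hQ' hle) hle)⟩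
  refine fun hmem => ?_
  have hQmem : r + m ∈ Q.asIdeal := hPQ hmem
  by_cases hr : r ∈ Q.asIdeal
  · exact hmS Q (Finset.mem_filter.2 ⟨hQ, hr⟩) ((Submodule.add_mem_iff_right _ hr).1 hQmem)
  · have hmQ : m ∈ Q.asIdeal := (Finset.inf_le (f := fun P : PrimeSpectrum R => P.asIdeal) (Finset.mem_filter.2 ⟨hQ, hr⟩)) hm.2
    exact hr ((Submodule.add_mem_iff_left _ hmQ).1 hQmem)

/-- in an affine open, finitely many points of an open subset lie in a basic open inside it -/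
theorem exists_basicOpen_finite {X : Scheme.{u}} {U : X.Opens} (hU : IsAffineOpen U) (F : Set X) (hF : F.Finite)
    (W : X.Opens) (hFU : F ⊆ (U : Set X)) (hFW : F ⊆ (W : Set X)) :
    ∃ f : Γ(X, U), X.basicOpen f ≤ W ∧ F ⊆ (X.basicOpen f : Set X) := by
  classical
  obtain ⟨I, hI⟩ := (PrimeSpectrum.isClosed_iff_zeroLocus_ideal _).1 (hU.fromSpec ⁻¹ᵁ W).2.isClosed_compl
  have hIW : ∀ P, hU.fromSpec P ∈ W ↔ ¬ I ≤ P.asIdeal := fun P => by
    have := Set.ext_iff.1 hI P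
    simp only [Set.mem_compl_iff, PrimeSpectrum.mem_zeroLocus, SetLike.coe_subset_coe] at this
    exact not_iff_comm.1 (this) |>.symm
  obtain ⟨m, hm, hmP⟩ := exists_add_notMem I 0 (hU.fromSpec ⁻¹' F) (hF.preimage hU.fromSpec.isOpenEmbedding.injective.injOn)
    (fun P hP hle => absurd hle ((hIW P).1 (hFW hP)))
  refine ⟨m, fun x hx => ?_, fun x hx => ?_⟩
  · obtain ⟨P, rfl⟩ : x ∈ Set.range hU.fromSpec := by rw [hU.range_fromSpec]; exact X.basicOpen_le _ hx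
    have : P ∈ PrimeSpectrum.basicOpen m := by rw [← hU.fromSpec_preimage_basicOpen]; exact hx
    exact (hIW P).2 fun hle => this (hle hm)
  · obtain ⟨P, rfl⟩ : x ∈ Set.range hU.fromSpec := by rw [hU.range_fromSpec]; exact hFU hx
    have := hmP P hx
    rw [zero_add] at this
    have h2 : P ∈ hU.fromSpec ⁻¹ᵁ X.basicOpen m := by rw [hU.fromSpec_preimage_basicOpen]; exact this
    exact h2

/-- a point of an affine open whose prime contains the kernel of restriction lies in the closed subscheme -/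
theorem mem_range_of_ker_le {Z X : Scheme.{u}} (i : Z ⟶ X) [IsClosedImmersion i] {U : X.Opens} (hU : IsAffineOpen U)
    (P : PrimeSpectrum Γ(X, U)) (h : RingHom.ker (i.app U).hom ≤ P.asIdeal) :
    ∃ z, i z = hU.fromSpec P := by
  obtain ⟨Q, rfl⟩ : P ∈ Set.range (PrimeSpectrum.comap (i.app U).hom) := by
    rw [range_comap_of_surjective _ _ (i.app_surjective U hU)]; exact h
  refine ⟨(hU.preimage i).fromSpec Q, ?_⟩
  have := congrArg (fun f : _ ⟶ X => f Q) (hU.SpecMap_appLE_fromSpec i (hU.preimage i) (V := i ⁻¹ᵁ U) le_rfl)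
  simp only [Scheme.Hom.appLE_eq_app] at this
  exact this.symm

/-- finitely many points on each side lie in a nice pair -/
theorem exists_nice_finite [IsClosedImmersion j] (F₁ : Set X) (F₂ : Set Y) (h₁f : F₁.Finite) (h₂f : F₂.Finite)
    (hF : ∀ z, i z ∈ F₁ ↔ j z ∈ F₂) (U₁ : X.Opens) (hU₁ : IsAffineOpen U₁) (hF₁ : F₁ ⊆ (U₁ : Set X))
    (U₂ : Y.Opens) (hU₂ : IsAffineOpen U₂) (hF₂ : F₂ ⊆ (U₂ : Set Y)) :
    ∃ p : Nice i j, F₁ ⊆ (p.U : Set X) ∧ F₂ ⊆ (p.V : Set Y) := by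
  have hc1 : IsClosed (j '' ((i ⁻¹ᵁ U₁ : Z.Opens) : Set Z)ᶜ) := j.isClosedMap _ (i ⁻¹ᵁ U₁).2.isClosed_compl
  obtain ⟨h, hh, hhF⟩ := exists_basicOpen_finite hU₂ F₂ h₂f ⟨_, hc1.isOpen_compl⟩ hF₂ (by
    rintro y hy ⟨z, hz, rfl⟩
    exact hz (hF₁ ((hF z).2 hy)))
  have hsub : j ⁻¹ᵁ Y.basicOpen h ≤ i ⁻¹ᵁ U₁ := fun z hz => by
    by_contra hc
    exact hh hz ⟨z, hc, rfl⟩
  have hc2 : IsClosed (i '' ((j ⁻¹ᵁ Y.basicOpen h : Z.Opens) : Set Z)ᶜ) := i.isClosedMap _ (j ⁻¹ᵁ Y.basicOpen h).2.isClosed_compl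
  obtain ⟨g, hg, hgF⟩ := exists_basicOpen_finite hU₁ F₁ h₁f ⟨_, hc2.isOpen_compl⟩ hF₁ (by
    rintro x hx ⟨z, hz, rfl⟩
    exact hz (hhF ((hF z).1 hx)))
  have hsub2 : i ⁻¹ᵁ X.basicOpen g ≤ j ⁻¹ᵁ Y.basicOpen h := fun z hz => by
    by_contra hc
    exact hg hz ⟨z, hc, rfl⟩
  have hD := hU₂.basicOpen h
  obtain ⟨k₀, hk₀⟩ := j.app_surjective _ hD ((Z.presheaf.map (homOfLE hsub).op).hom (i.app U₁ g))
  have hpre₀ : ∀ m, j.app (Y.basicOpen h) m = 0 → j ⁻¹ᵁ Y.basicOpen (k₀ + m) = i ⁻¹ᵁ X.basicOpen g := fun m hm => by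
    rw [Scheme.preimage_basicOpen, map_add, hm, add_zero, hk₀, Scheme.basicOpen_res, ← Scheme.preimage_basicOpen]
    exact inf_eq_right.2 hsub2
  obtain ⟨m, hm, hmP⟩ := exists_add_notMem (RingHom.ker (j.app (Y.basicOpen h)).hom) k₀ (hD.fromSpec ⁻¹' F₂)
    (h₂f.preimage hD.fromSpec.isOpenEmbedding.injective.injOn) (fun P hP hle hmem => by
      obtain ⟨z, hz⟩ := mem_range_of_ker_le j hD P hle
      have h1 : z ∈ i ⁻¹ᵁ X.basicOpen g := hgF ((hF z).2 (hz ▸ hP))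
      rw [← hpre₀ 0 (map_zero _), add_zero] at h1
      have h2 : P ∈ hD.fromSpec ⁻¹ᵁ Y.basicOpen k₀ := by
        show hD.fromSpec P ∈ Y.basicOpen k₀
        rw [← hz]; exact h1
      rw [hD.fromSpec_preimage_basicOpen] at h2
      exact h2 hmem)
  refine ⟨⟨X.basicOpen g, Y.basicOpen (k₀ + m), hU₁.basicOpen g, hD.basicOpen _, (hpre₀ m hm).symm⟩, hgF, fun y hy => ?_⟩
  obtain ⟨P, rfl⟩ : y ∈ Set.range hD.fromSpec := by rw [hD.range_fromSpec]; exact hhF hy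
  have h2 : P ∈ hD.fromSpec ⁻¹ᵁ Y.basicOpen (k₀ + m) := by
    rw [hD.fromSpec_preimage_basicOpen]; exact hmP P hy
  exact h2

end avoid

end Groth.Agent.PushLib
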