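import Mathlib
import Groth.Agent.PushLib.Transfer

/-!
# The pushout over a base: separatedness, finite type
-/

set_option autoImplicit false
universe u

open CategoryTheory AlgebraicGeometry Limits

namespace Groth.Agent.PushLib

variable {Z X Y P : Scheme.{u}} {i : Z ⟶ X} {j : Z ⟶ Y} {a : X ⟶ P} {b : Y ⟶ P} [IsClosedImmersion i]

theorem exists_or (hY : ∀ y : Y, ∃ p : Nice i j, y ∈ p.V) (hP : IsPushout i j a b) (w : P) :
    (∃ x, a x = w) ∨ ∃ y, b y = w := by
  obtain ⟨w, rfl⟩ := (Nice.iso hY hP).hom.surjective w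
  obtain ⟨p, z, rfl⟩ := Scheme.IsLocallyDirected.ι_jointly_surjective (Nice.F i j) w
  rcases p.sq.eq_or_eq z with ⟨y, rfl⟩ | ⟨y, rfl⟩
  · refine Or.inr ⟨p.hV.fromSpec y, ?_⟩
    refine (congrArg (fun g : Y ⟶ P => g (p.hV.fromSpec y)) (Nice.b_iso hY hP)).symm.trans ?_
    exact congrArg (Nice.iso hY hP).hom (congrArg (fun g : _ ⟶ Nice.P i j => g y) (Nice.fromSpec_b hY p))
  · refine Or.inl ⟨p.hU.fromSpec y, ?_⟩
    refine (congrArg (fun g : X ⟶ P => g (p.hU.fromSpec y)) (Nice.a_iso hY hP)).symm.trans ?_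
    exact congrArg (Nice.iso hY hP).hom (congrArg (fun g : _ ⟶ Nice.P i j => g y) (Nice.fromSpec_a hY p))

theorem surjective_desc (hY : ∀ y : Y, ∃ p : Nice i j, y ∈ p.V) (hP : IsPushout i j a b) :
    Surjective (coprod.desc a b) := by
  refine ⟨fun w => ?_⟩
  rcases exists_or hY hP w with ⟨x, rfl⟩ | ⟨y, rfl⟩
  · exact ⟨(coprod.inl : X ⟶ X ⨿ Y) x, congrArg (fun g : X ⟶ P => g x) (coprod.inl_desc a b)⟩
  · exact ⟨(coprod.inr : Y ⟶ X ⨿ Y) y, congrArg (fun g : Y ⟶ P => g y) (coprod.inr_desc a b)⟩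

theorem desc_eq_map_codiag {A B S : Scheme.{u}} (f : A ⟶ S) (g : B ⟶ S) :
    coprod.desc f g = coprod.map f g ≫ coprod.desc (𝟙 S) (𝟙 S) := by
  ext <;> simp

theorem isSeparated_coprodDesc {A B S : Scheme.{u}} (f : A ⟶ S) (g : B ⟶ S) [IsSeparated f] [IsSeparated g] :
    IsSeparated (coprod.desc f g) := by
  haveI : IsSeparated (coprod.map f g) := IsZariskiLocalAtTarget.coprodMap (P := @IsSeparated) f g ‹_› ‹_›
  rw [desc_eq_map_codiag]; infer_instance

theorem quasiSeparated_coprodDesc {A B S : Scheme.{u}} (f : A ⟶ S) (g : B ⟶ S) [QuasiSeparated f] [QuasiSeparated g] :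
    QuasiSeparated (coprod.desc f g) := by
  haveI : QuasiSeparated (coprod.map f g) := IsZariskiLocalAtTarget.coprodMap (P := @QuasiSeparated) f g ‹_› ‹_›
  rw [desc_eq_map_codiag]; infer_instance

theorem universallyClosed_coprodDesc {A B S : Scheme.{u}} (f : A ⟶ S) (g : B ⟶ S) [UniversallyClosed f] [UniversallyClosed g] :
    UniversallyClosed (coprod.desc f g) := by
  haveI : UniversallyClosed (coprod.map f g) := IsZariskiLocalAtTarget.coprodMap (P := @UniversallyClosed) f g ‹_› ‹_›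
  rw [desc_eq_map_codiag]; infer_instance

/-- a chart around any point landing in a given open -/
theorem exists_chart_le (hY : ∀ y : Y, ∃ p : Nice i j, y ∈ p.V) (hP : IsPushout i j a b) (w : P) (O : P.Opens) (hw : w ∈ O) :
    ∃ p : Nice i j, w ∈ Set.range (p.ι ≫ (Nice.iso hY hP).hom) ∧
      Set.range (p.ι ≫ (Nice.iso hY hP).hom) ⊆ (O : Set P) := by
  obtain ⟨w, rfl⟩ := (Nice.iso hY hP).hom.surjective w
  obtain ⟨m, z, rfl⟩ := Scheme.IsLocallyDirected.ι_jointly_surjective (Nice.F i j) w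
  let e := (Nice.iso hY hP).hom
  have heq : i ⁻¹ᵁ ((Nice.a hY ≫ e) ⁻¹ᵁ O) = j ⁻¹ᵁ ((Nice.b hY ≫ e) ⁻¹ᵁ O) := by
    rw [← Scheme.Hom.comp_preimage, ← Scheme.Hom.comp_preimage, ← Category.assoc, Nice.w hY, Category.assoc]
  have hz : z ∈ m.W ((Nice.a hY ≫ e) ⁻¹ᵁ O) ((Nice.b hY ≫ e) ⁻¹ᵁ O) := by
    rcases m.sq.eq_or_eq z with ⟨y, rfl⟩ | ⟨y, rfl⟩
    · refine Or.inl ⟨y, ?_, rfl⟩
      show e (Nice.b hY (m.hV.fromSpec y)) ∈ O
      rw [show Nice.b hY (m.hV.fromSpec y) = m.ι (specMap m.sq.u y) from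
        congrArg (fun g : _ ⟶ Nice.P i j => g y) (Nice.fromSpec_b hY m)]
      exact hw
    · refine Or.inr ⟨y, ?_, rfl⟩
      show e (Nice.a hY (m.hU.fromSpec y)) ∈ O
      rw [show Nice.a hY (m.hU.fromSpec y) = m.ι (specMap m.sq.v y) from
        congrArg (fun g : _ ⟶ Nice.P i j => g y) (Nice.fromSpec_a hY m)]
      exact hw
  obtain ⟨r, hrm, hU, hV, y, hy⟩ := m.exists_le _ _ heq z hz
  refine ⟨r, ⟨y, ?_⟩, ?_⟩
  · show e (r.ι y) = _
    rw [← Nice.res_ι hrm]
    exact congrArg (fun t => e (m.ι t)) hy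
  · rintro _ ⟨y, rfl⟩
    show e (r.ι y) ∈ O
    rcases r.sq.eq_or_eq y with ⟨x, rfl⟩ | ⟨x, rfl⟩
    · rw [show r.ι (specMap r.sq.u x) = Nice.b hY (r.hV.fromSpec x) from
        (congrArg (fun g : _ ⟶ Nice.P i j => g x) (Nice.fromSpec_b hY r)).symm]
      refine hV ?_
      have := Set.mem_range_self (f := r.hV.fromSpec) x
      rwa [r.hV.range_fromSpec] at this
    · rw [show r.ι (specMap r.sq.v x) = Nice.a hY (r.hU.fromSpec x) from
        (congrArg (fun g : _ ⟶ Nice.P i j => g x) (Nice.fromSpec_a hY r)).symm]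
      refine hU ?_
      have := Set.mem_range_self (f := r.hU.fromSpec) x
      rwa [r.hU.range_fromSpec] at this

theorem FibSq.finiteType {B' B A' A R : Type u} [CommRing B'] [CommRing B] [CommRing A'] [CommRing A] [CommRing R]
    [IsNoetherianRing R] (S : FibSq B' B A' A) (φ : R →+* B') (hB : (S.u.comp φ).FiniteType)
    (hA : (S.v.comp φ).FiniteType) (hq : S.q.IsIntegral) : φ.FiniteType := by
  letI := φ.toAlgebra
  letI := (S.u.comp φ).toAlgebra
  letI := (S.v.comp φ).toAlgebra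
  let g : B' →+* B × A' := S.u.prod S.v
  letI := g.toAlgebra
  letI : Algebra R (B × A') := inferInstance
  haveI : IsScalarTower R B' (B × A') := IsScalarTower.of_algebraMap_eq fun r => rfl
  haveI : Algebra.FiniteType R B := hB
  haveI : Algebra.FiniteType R A' := hA
  haveI : Algebra.FiniteType R (B × A') := inferInstance
  haveI : Module.Finite B' (B × A') := by
    have hu : S.u.Finite := RingHom.Finite.of_surjective _ S.u_surjective
    have hv : S.v.Finite := RingHom.IsIntegral.to_finite (S.v_isIntegral hq) (RingHom.FiniteType.of_comp_finiteType (f := φ) hA)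
    letI := S.u.toAlgebra
    letI := S.v.toAlgebra
    haveI : Module.Finite B' B := hu
    haveI : Module.Finite B' A' := hv
    exact inferInstanceAs (Module.Finite B' (B × A'))
  exact ⟨fg_of_fg_of_fg R B' (B × A') Algebra.FiniteType.out Module.Finite.fg_top
    fun x y h => S.inj x y (congrArg Prod.fst h) (congrArg Prod.snd h)⟩

theorem locallyOfFiniteType {T : Scheme.{u}} [IsLocallyNoetherian T] [IsIntegralHom j]
    (hY : ∀ y : Y, ∃ p : Nice i j, y ∈ p.V) (hP : IsPushout i j a b) (r : P ⟶ T)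
    [LocallyOfFiniteType (a ≫ r)] [LocallyOfFiniteType (b ≫ r)] : LocallyOfFiniteType r := by
  let e := (Nice.iso hY hP).hom
  have hpt : ∀ w : P, ∃ p : Nice i j, w ∈ Set.range (p.ι ≫ e) ∧ LocallyOfFiniteType ((p.ι ≫ e) ≫ r) := fun w => by
    obtain ⟨S₀, hS₀, hw, -⟩ := exists_isAffineOpen_mem_and_subset (X := T) (x := r w) (U := ⊤) trivial
    obtain ⟨p, hwp, hp⟩ := exists_chart_le hY hP w (r ⁻¹ᵁ S₀) hw
    obtain ⟨l, hl⟩ : ∃ l, l ≫ hS₀.fromSpec = (p.ι ≫ e) ≫ r := ⟨_, IsOpenImmersion.lift_fac _ _ (by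
      rw [hS₀.range_fromSpec]; rintro _ ⟨z, rfl⟩; exact hp ⟨z, rfl⟩)⟩
    obtain ⟨φ, rfl⟩ := Spec.map_surjective l
    refine ⟨p, hwp, ?_⟩
    rw [← hl]
    haveI : IsNoetherianRing Γ(T, S₀) := IsLocallyNoetherian.component_noetherian ⟨S₀, hS₀⟩
    suffices LocallyOfFiniteType (Spec.map φ) by infer_instance
    rw [HasRingHomProperty.Spec_iff (P := @LocallyOfFiniteType)]
    refine p.sq.finiteType φ.hom ?_ ?_ ?_
    · have h : LocallyOfFiniteType ((specMap p.sq.u ≫ Spec.map φ) ≫ hS₀.fromSpec) := by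
        rw [Category.assoc, hl, ← Category.assoc, ← Category.assoc, ← Nice.fromSpec_b hY, Category.assoc p.hV.fromSpec,
          Nice.b_iso hY hP, Category.assoc]
        infer_instance
      have h2 : LocallyOfFiniteType (Spec.map (φ ≫ CommRingCat.ofHom p.sq.u)) := by
        rw [Spec.map_comp]; exact locallyOfFiniteType_of_comp _ hS₀.fromSpec
      exact (HasRingHomProperty.Spec_iff (P := @LocallyOfFiniteType)).1 h2
    · have h : LocallyOfFiniteType ((specMap p.sq.v ≫ Spec.map φ) ≫ hS₀.fromSpec) := by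
        rw [Category.assoc, hl, ← Category.assoc, ← Category.assoc, ← Nice.fromSpec_a hY, Category.assoc p.hU.fromSpec,
          Nice.a_iso hY hP, Category.assoc]
        infer_instance
      have h2 : LocallyOfFiniteType (Spec.map (φ ≫ CommRingCat.ofHom p.sq.v)) := by
        rw [Spec.map_comp]; exact locallyOfFiniteType_of_comp _ hS₀.fromSpec
      exact (HasRingHomProperty.Spec_iff (P := @LocallyOfFiniteType)).1 h2
    · exact RingHom.IsIntegral.trans (j.app p.V).hom (Z.presheaf.map (homOfLE p.heq.le).op).hom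
        (IsIntegralHom.isIntegral_app j p.V p.hV) (RingHom.isIntegral_of_surjective _ (surjective_res p.heq))
  choose p hp hl using hpt
  haveI : ∀ w, IsOpenImmersion ((p w).ι ≫ e) := fun w => inferInstance
  let 𝒰 : P.OpenCover := Scheme.Cover.mkOfCovers P (fun w => Spec (.of (p w).ring)) (fun w => (p w).ι ≫ e)
    (fun w => ⟨w, hp w⟩) (fun w => this w)
  exact IsZariskiLocalAtSource.of_openCover (P := @LocallyOfFiniteType) 𝒰 fun w => hl w

end Groth.Agent.PushLib
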