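import Mathlib
import Groth.Agent.PushLib.Charts
import Groth.Agent.PushLib.Over
import Groth.Agent.KFlatLib.CxFlat
import Groth.Agent.KFlatLib.ResolProps

/-!
# Base change of fibre squares and of pushouts
-/

set_option autoImplicit false
universe u

open CategoryTheory AlgebraicGeometry Limits TensorProduct

namespace Groth.Agent.PushLib

namespace FibSq

variable {B' B A' A : Type u} [CommRing B'] [CommRing B] [CommRing A'] [CommRing A] (S : FibSq B' B A' A)
variable {R : Type u} [CommRing R] [Algebra R B'] [Algebra R B] [Algebra R A'] [Algebra R A]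
variable (hu : S.u.comp (algebraMap R B') = algebraMap R B) (hv : S.v.comp (algebraMap R B') = algebraMap R A')
  (hA : S.q.comp (algebraMap R B) = algebraMap R A)

noncomputable def uₐ : B' →ₐ[R] B := { S.u with commutes' := RingHom.congr_fun hu }

noncomputable def vₐ : B' →ₐ[R] A' := { S.v with commutes' := RingHom.congr_fun hv }

noncomputable def qₐ : B →ₐ[R] A := { S.q with commutes' := RingHom.congr_fun hA }

noncomputable def pₐ : A' →ₐ[R] A :=
  { S.p with
    commutes' := fun r => by
      show S.p (algebraMap R A' r) = algebraMap R A r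
      rw [← hv, ← hA, ← hu]
      exact (S.w _).symm }

/-- the pair map `B' → B × A'` -/
noncomputable def pairₗ : B' →ₗ[R] B × A' := (S.uₐ hu).toLinearMap.prod (S.vₐ hv).toLinearMap

/-- the difference map -/
noncomputable def diffₗ : B × A' →ₗ[R] A :=
  (S.qₐ hA).toLinearMap ∘ₗ LinearMap.fst R B A' - (S.pₐ hu hv hA).toLinearMap ∘ₗ LinearMap.snd R B A'

theorem pairₗ_injective : Function.Injective (S.pairₗ hu hv) := fun x y h =>
  S.inj x y (congrArg Prod.fst h) (congrArg Prod.snd h)

theorem diffₗ_surjective : Function.Surjective (S.diffₗ hu hv hA) := fun x => by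
  obtain ⟨y, rfl⟩ := S.surj x
  exact ⟨(0, -y), by show S.q 0 - S.p (-y) = S.p y; simp⟩

theorem exact : Function.Exact (S.pairₗ hu hv) (S.diffₗ hu hv hA) := fun ⟨b, a⟩ => by
  constructor
  · intro h
    obtain ⟨x, h1, h2⟩ := S.lift b a (sub_eq_zero.1 h)
    exact ⟨x, Prod.ext h1 h2⟩
  · rintro ⟨x, hx⟩
    rw [← hx]
    exact sub_eq_zero.2 (S.w x)

include hA in
theorem pairTensor_injective_of_flat_A [Module.Flat R A] (N : Type u) [AddCommGroup N] [Module R N] :
    Function.Injective ((S.pairₗ hu hv).rTensor N) :=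
  KFlatLib.rTensor_injective_of_flat_quotient _ _ (S.pairₗ_injective hu hv) (S.exact hu hv hA)
    (S.diffₗ_surjective hu hv hA) N

theorem pairTensor_injective_of_flat (N : Type u) [AddCommGroup N] [Module R N] [Module.Flat R N] :
    Function.Injective ((S.pairₗ hu hv).rTensor N) :=
  Module.Flat.rTensor_preserves_injective_linearMap _ (S.pairₗ_injective hu hv)

include hu hv hA in
theorem flat [Module.Flat R A] [Module.Flat R B] [Module.Flat R A'] : Module.Flat R B' :=
  haveI : Module.Flat R (B × A') := KFlatLib.flat_prod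
  KFlatLib.flat_kernel _ _ (S.pairₗ_injective hu hv) (S.exact hu hv hA) (S.diffₗ_surjective hu hv hA)

variable (R' : Type u) [CommRing R'] [Algebra R R']
variable (hinj : Function.Injective ((S.pairₗ hu hv).rTensor R'))

/-- base change of a fibre square -/
noncomputable def baseChange : FibSq (B' ⊗[R] R') (B ⊗[R] R') (A' ⊗[R] R') (A ⊗[R] R') where
  u := (Algebra.TensorProduct.map (S.uₐ hu) (AlgHom.id R R')).toRingHom
  v := (Algebra.TensorProduct.map (S.vₐ hv) (AlgHom.id R R')).toRingHom
  q := (Algebra.TensorProduct.map (S.qₐ hA) (AlgHom.id R R')).toRingHom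
  p := (Algebra.TensorProduct.map (S.pₐ hu hv hA) (AlgHom.id R R')).toRingHom
  w x := by
    induction x using TensorProduct.induction_on with
    | zero => simp
    | tmul a r => simp [uₐ, vₐ, qₐ, pₐ, S.w]
    | add x y hx hy => simp only [map_add, hx, hy]
  surj := LinearMap.rTensor_surjective R' (g := (S.pₐ hu hv hA).toLinearMap) S.surj
  inj := fun x y h1 h2 => hinj <| by
    refine (TensorProduct.prodLeft R R B A' R').injective ?_
    have e : ∀ z, TensorProduct.prodLeft R R B A' R' ((S.pairₗ hu hv).rTensor R' z) =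
        ((S.uₐ hu).toLinearMap.rTensor R' z, (S.vₐ hv).toLinearMap.rTensor R' z) := fun z => by
      induction z using TensorProduct.induction_on with
      | zero => simp [Prod.ext_iff]
      | tmul a r => simp [pairₗ]
      | add x y hx hy => simp only [map_add, hx, hy, Prod.mk_add_mk]
    rw [e, e]
    exact Prod.ext h1 h2
  lift := fun b a h => by
    have e : ∀ z, (S.diffₗ hu hv hA).rTensor R' z =
        (S.qₐ hA).toLinearMap.rTensor R' (TensorProduct.prodLeft R R B A' R' z).1 -
        (S.pₐ hu hv hA).toLinearMap.rTensor R' (TensorProduct.prodLeft R R B A' R' z).2 := fun z => by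
      induction z using TensorProduct.induction_on with
      | zero => simp
      | tmul a r => obtain ⟨x, y⟩ := a; simp [diffₗ, sub_tmul]
      | add x y hx hy => simp only [map_add, hx, hy, Prod.fst_add, Prod.snd_add]; abel
    obtain ⟨x, hx⟩ := (rTensor_exact R' (S.exact hu hv hA) (S.diffₗ_surjective hu hv hA) ((TensorProduct.prodLeft R R B A' R').symm (b, a))).1
      (by rw [e, LinearEquiv.apply_symm_apply]; exact sub_eq_zero.2 h)
    have e' : ∀ z, TensorProduct.prodLeft R R B A' R' ((S.pairₗ hu hv).rTensor R' z) =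
        ((S.uₐ hu).toLinearMap.rTensor R' z, (S.vₐ hv).toLinearMap.rTensor R' z) := fun z => by
      induction z using TensorProduct.induction_on with
      | zero => simp [Prod.ext_iff]
      | tmul a r => simp [pairₗ]
      | add x y hx hy => simp only [map_add, hx, hy, Prod.mk_add_mk]
    have h2 := congrArg (TensorProduct.prodLeft R R B A' R') hx
    rw [e', LinearEquiv.apply_symm_apply] at h2
    exact ⟨x, congrArg Prod.fst h2, congrArg Prod.snd h2⟩

end FibSq

/-- base change of an algebra map gives a cartesian square of spectra -/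
theorem isPullback_specMap_map {R R' B C : Type u} [CommRing R] [CommRing R'] [CommRing B] [CommRing C]
    [Algebra R R'] [Algebra R B] [Algebra R C] (f : B →ₐ[R] C) :
    IsPullback (specMap (Algebra.TensorProduct.map f (AlgHom.id R R')).toRingHom)
      (specMap (Algebra.TensorProduct.includeLeftRingHom : C →+* C ⊗[R] R'))
      (specMap (Algebra.TensorProduct.includeLeftRingHom : B →+* B ⊗[R] R')) (specMap f.toRingHom) := by
  refine isPullback_SpecMap_of_isPushout _ _ _ _ (IsPushout.flip ?_)
  have t := CommRingCat.isPushout_tensorProduct R B R'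
  have s := CommRingCat.isPushout_tensorProduct R C R'
  have e1 : CommRingCat.ofHom (algebraMap R B) ≫ CommRingCat.ofHom f.toRingHom = CommRingCat.ofHom (algebraMap R C) := by
    ext r; exact f.commutes r
  have e2 : CommRingCat.ofHom (Algebra.TensorProduct.includeRight : R' →ₐ[R] B ⊗[R] R').toRingHom ≫
      CommRingCat.ofHom (Algebra.TensorProduct.map f (AlgHom.id R R')).toRingHom =
      CommRingCat.ofHom (Algebra.TensorProduct.includeRight : R' →ₐ[R] C ⊗[R] R').toRingHom := by
    ext r; simp
  rw [← e1, ← e2] at s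
  refine IsPushout.of_left s ?_ t
  ext x; simp

/-- the chart of a base change over affine opens -/
theorem exists_chartMap {P PT S T : Scheme.{u}} {Q R R' : Type u} [CommRing Q] [CommRing R] [CommRing R']
    [Algebra R Q] [Algebra R R'] (sP : P ⟶ S) (g : T ⟶ S) (pP : PT ⟶ P) (sPT : PT ⟶ T) (hPT : IsPullback pP sPT sP g)
    (κP : Spec (.of Q) ⟶ P) [IsOpenImmersion κP] (κS : Spec (.of R) ⟶ S) [IsOpenImmersion κS]
    (κT : Spec (.of R') ⟶ T) [IsOpenImmersion κT]
    (hP : κP ≫ sP = specMap (algebraMap R Q) ≫ κS) (hT : κT ≫ g = specMap (algebraMap R R') ≫ κS) :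
    ∃ κ : Spec (.of (Q ⊗[R] R')) ⟶ PT, IsOpenImmersion κ ∧
      κ ≫ pP = specMap Algebra.TensorProduct.includeLeftRingHom ≫ κP ∧
      ∀ w : PT, pP w ∈ Set.range κP → sPT w ∈ Set.range κT → w ∈ Set.range κ := by
  let W₁ := pullback pP κP
  let p₁ : W₁ ⟶ PT := pullback.fst _ _
  let W := pullback (p₁ ≫ sPT) κT
  let π : W ⟶ PT := pullback.fst (p₁ ≫ sPT) κT ≫ p₁
  let x : W ⟶ Spec (.of Q) := pullback.fst (p₁ ≫ sPT) κT ≫ pullback.snd _ _
  let y : W ⟶ Spec (.of R') := pullback.snd _ _
  have hx : π ≫ pP = x ≫ κP := by simp only [π, x, p₁, Category.assoc, pullback.condition]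
  have hy : π ≫ sPT = y ≫ κT := by simp only [π, y, Category.assoc]; exact pullback.condition
  have w : x ≫ specMap (algebraMap R Q) = y ≫ specMap (algebraMap R R') := by
    rw [← cancel_mono κS, Category.assoc x, Category.assoc y, ← hP, ← hT, ← Category.assoc x, ← hx, ← Category.assoc y,
      ← hy, Category.assoc π, Category.assoc π, hPT.w]
  have hex : ∀ s : PullbackCone (specMap (algebraMap R Q)) (specMap (algebraMap R R')),
      ∃ l : s.pt ⟶ W, l ≫ x = s.fst ∧ l ≫ y = s.snd := by
    intro s
    let t := hPT.lift (s.fst ≫ κP) (s.snd ≫ κT) (by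
      rw [Category.assoc, Category.assoc, hP, hT, ← Category.assoc, s.condition, Category.assoc])
    let t₁ := pullback.lift t s.fst (hPT.lift_fst _ _ _)
    refine ⟨pullback.lift t₁ s.snd ?_, ?_, ?_⟩
    · show t₁ ≫ p₁ ≫ sPT = _
      rw [← Category.assoc, pullback.lift_fst, hPT.lift_snd]
    · show pullback.lift t₁ s.snd _ ≫ pullback.fst _ _ ≫ pullback.snd _ _ = _
      rw [← Category.assoc, pullback.lift_fst, pullback.lift_snd]
    · exact pullback.lift_snd _ _ _
  choose l hl₁ hl₂ using hex
  haveI : IsOpenImmersion π := inferInstance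
  have hpb : IsPullback x y (specMap (algebraMap R Q)) (specMap (algebraMap R R')) :=
    ⟨⟨w⟩, ⟨PullbackCone.IsLimit.mk w l hl₁ hl₂ fun s m h1 h2 => by
      rw [← cancel_mono π]
      refine hPT.hom_ext ?_ ?_
      · rw [Category.assoc m π pP, hx, ← Category.assoc m x, h1, Category.assoc (l s) π pP, hx, ← Category.assoc (l s) x, hl₁]
      · rw [Category.assoc m π sPT, hy, ← Category.assoc m y, h2, Category.assoc (l s) π sPT, hy, ← Category.assoc (l s) y, hl₂]⟩⟩
  let e := (pullbackSpecIso R Q R').symm ≪≫ hpb.isoPullback.symm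
  refine ⟨e.hom ≫ π, inferInstance, ?_, fun w hw₁ hw₂ => ?_⟩
  · rw [Category.assoc, hx]
    simp only [e, Iso.trans_hom, Iso.symm_hom, Category.assoc]
    rw [hpb.isoPullback_inv_fst_assoc, pullbackSpecIso_inv_fst_assoc]
  · obtain ⟨w₁, hw₁'⟩ : w ∈ Set.range p₁ := by
      rw [show Set.range p₁ = pP ⁻¹' Set.range κP from IsOpenImmersion.range_pullbackFst κP pP]; exact hw₁
    obtain ⟨w₂, hw₂'⟩ : w₁ ∈ Set.range (pullback.fst (p₁ ≫ sPT) κT) := by
      rw [IsOpenImmersion.range_pullbackFst κT (p₁ ≫ sPT)]
      show sPT (p₁ w₁) ∈ Set.range κT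
      rw [hw₁']; exact hw₂
    obtain ⟨v, hv⟩ := e.hom.surjective w₂
    refine ⟨v, ?_⟩
    show p₁ (pullback.fst (p₁ ≫ sPT) κT (e.hom v)) = w
    rw [hv, hw₂', hw₁']

end Groth.Agent.PushLib
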