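import Mathlib
import Groth.Agent.PushLib.BC

/-!
# Pushouts and base change
-/

set_option autoImplicit false
universe u

open CategoryTheory AlgebraicGeometry Limits TensorProduct

namespace Groth.Agent.PushLib

variable {Z X Y P : Scheme.{u}} {i : Z ⟶ X} {j : Z ⟶ Y} {a : X ⟶ P} {b : Y ⟶ P}

theorem exists_bcChart {S T PT XT YT ZT : Scheme.{u}} (C : Chart i j a b) {R R' : Type u} [CommRing R] [CommRing R']
    [Algebra R C.Q'] [Algebra R C.B] [Algebra R C.A'] [Algebra R C.A] [Algebra R R']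
    (hu : C.S.u.comp (algebraMap R C.Q') = algebraMap R C.B) (hv : C.S.v.comp (algebraMap R C.Q') = algebraMap R C.A')
    (hA : C.S.q.comp (algebraMap R C.B) = algebraMap R C.A)
    (hinj : Function.Injective ((C.S.pairₗ hu hv).rTensor R'))
    (sP : P ⟶ S) (g : T ⟶ S) (pP : PT ⟶ P) (sPT : PT ⟶ T) (hPT : IsPullback pP sPT sP g)
    (κS : Spec (.of R) ⟶ S) [IsOpenImmersion κS] (κT : Spec (.of R') ⟶ T) [IsOpenImmersion κT]
    (hκP : C.κ ≫ sP = specMap (algebraMap R C.Q') ≫ κS) (hκT : κT ≫ g = specMap (algebraMap R R') ≫ κS)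
    (pX : XT ⟶ X) (qT : XT ⟶ PT) (hXT : IsPullback pX qT a pP)
    (pY : YT ⟶ Y) (jT : YT ⟶ PT) (hYT : IsPullback pY jT b pP)
    (pZ : ZT ⟶ Z) (iT : ZT ⟶ XT) (hZT : IsPullback pZ iT i pX)
    (hT : ZT ⟶ YT) (hhT₁ : hT ≫ pY = pZ ≫ j) (hhT₂ : hT ≫ jT = iT ≫ qT) :
    ∃ D : Chart iT hT qT jT, ∀ w : PT, pP w ∈ Set.range C.κ → sPT w ∈ Set.range κT → w ∈ Set.range D.κ := by
  obtain ⟨κ, hκo, hκ, hκr⟩ := exists_chartMap sP g pP sPT hPT C.κ κS κT hκP hκT
  let S' := C.S.baseChange hu hv hA R' hinj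
  have hpv : IsPullback (specMap S'.v) (specMap Algebra.TensorProduct.includeLeftRingHom)
      (specMap Algebra.TensorProduct.includeLeftRingHom) (specMap C.S.v) :=
    isPullback_specMap_map (C.S.vₐ hv)
  have hpu : IsPullback (specMap S'.u) (specMap Algebra.TensorProduct.includeLeftRingHom)
      (specMap Algebra.TensorProduct.includeLeftRingHom) (specMap C.S.u) :=
    isPullback_specMap_map (C.S.uₐ hu)
  let κX := hXT.lift (specMap Algebra.TensorProduct.includeLeftRingHom ≫ C.κX) (specMap S'.v ≫ κ) (by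
    rw [Category.assoc, ← C.pbX.w, ← Category.assoc, ← hpv.w, Category.assoc, Category.assoc, hκ])
  let κY := hYT.lift (specMap Algebra.TensorProduct.includeLeftRingHom ≫ C.κY) (specMap S'.u ≫ κ) (by
    rw [Category.assoc, ← C.pbY.w, ← Category.assoc, ← hpu.w, Category.assoc, Category.assoc, hκ])
  have hX1 : κX ≫ pX = specMap Algebra.TensorProduct.includeLeftRingHom ≫ C.κX := hXT.lift_fst _ _ _
  have hX2 : κX ≫ qT = specMap S'.v ≫ κ := hXT.lift_snd _ _ _
  have hY1 : κY ≫ pY = specMap Algebra.TensorProduct.includeLeftRingHom ≫ C.κY := hYT.lift_fst _ _ _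
  have hY2 : κY ≫ jT = specMap S'.u ≫ κ := hYT.lift_snd _ _ _
  have hpp : specMap S'.p ≫ specMap Algebra.TensorProduct.includeLeftRingHom =
      specMap Algebra.TensorProduct.includeLeftRingHom ≫ specMap C.S.p :=
    (isPullback_specMap_map (R' := R') (C.S.pₐ hu hv hA)).w
  have hpq : specMap S'.q ≫ specMap Algebra.TensorProduct.includeLeftRingHom =
      specMap Algebra.TensorProduct.includeLeftRingHom ≫ specMap C.S.q :=
    (isPullback_specMap_map (R' := R') (C.S.qₐ hA)).w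
  let κZ := hZT.lift (specMap Algebra.TensorProduct.includeLeftRingHom ≫ C.κZ) (specMap S'.p ≫ κX) (by
    rw [Category.assoc, ← C.hp, ← Category.assoc, ← hpp, Category.assoc, Category.assoc, hX1])
  have hZ1 : κZ ≫ pZ = specMap Algebra.TensorProduct.includeLeftRingHom ≫ C.κZ := hZT.lift_fst _ _ _
  have hZ2 : κZ ≫ iT = specMap S'.p ≫ κX := hZT.lift_snd _ _ _
  refine ⟨{ Q' := C.Q' ⊗[R] R', B := C.B ⊗[R] R', A' := C.A' ⊗[R] R', A := C.A ⊗[R] R', S := S', κ := κ, κY := κY, κX := κX, κZ := κZ, openκ := hκo, pbY := ?_, pbX := ?_,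
            hp := hZ2.symm, hq := ?_ }, hκr⟩
  · refine IsPullback.of_bot ?_ hY2.symm hYT.flip
    rw [hκ, hY1]
    exact hpu.paste_vert C.pbY
  · refine IsPullback.of_bot ?_ hX2.symm hXT.flip
    rw [hκ, hX1]
    exact hpv.paste_vert C.pbX
  · refine hYT.hom_ext ?_ ?_
    · rw [Category.assoc, hY1, ← Category.assoc, hpq, Category.assoc, C.hq, ← Category.assoc, ← hZ1,
        Category.assoc, ← hhT₁, Category.assoc]
    · rw [Category.assoc, hY2, ← Category.assoc, S'.spec_w, Category.assoc κZ, hhT₂, ← Category.assoc κZ, hZ2,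
        Category.assoc, Category.assoc, hX2]

variable [IsClosedImmersion i]

/-- the chart of a nice pair -/
noncomputable def Nice.chart (hY : ∀ y : Y, ∃ p : Nice i j, y ∈ p.V) (hP : IsPushout i j a b) (p : Nice i j) :
    Chart i j a b where
  Q' := p.ring
  B := Γ(Y, p.V)
  A' := Γ(X, p.U)
  A := Γ(Z, i ⁻¹ᵁ p.U)
  S := p.sq
  κ := p.ι ≫ (Nice.iso hY hP).hom
  κY := p.hV.fromSpec
  κX := p.hU.fromSpec
  κZ := (p.hU.preimage i).fromSpec
  openκ := inferInstance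
  pbY := (Nice.isPullback_b hY p).of_iso (Iso.refl _) (Iso.refl _) (Iso.refl _) (Nice.iso hY hP) (by simp) (by simp)
    (by simp) (by simp [Nice.b_iso])
  pbX := (Nice.isPullback_a hY p).of_iso (Iso.refl _) (Iso.refl _) (Iso.refl _) (Nice.iso hY hP) (by simp) (by simp)
    (by simp) (by simp [Nice.a_iso])
  hp := (Nice.fromSpec_i p).symm
  hq := (Nice.fromSpec_j p).symm

/-- the injectivity needed for base change -/
def BCInj (hY : ∀ y : Y, ∃ p : Nice i j, y ∈ p.V) (hP : IsPushout i j a b) {S T : Scheme.{u}} (sP : P ⟶ S)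
    (g : T ⟶ S) : Prop :=
  ∀ (p : Nice i j) (R R' : Type u) [CommRing R] [CommRing R'] [Algebra R R'] (φ : R →+* (Nice.chart hY hP p).Q')
    (κS : Spec (.of R) ⟶ S) (κT : Spec (.of R') ⟶ T), IsOpenImmersion κS → IsOpenImmersion κT →
    (Nice.chart hY hP p).κ ≫ sP = specMap φ ≫ κS → κT ≫ g = specMap (algebraMap R R') ≫ κS →
    letI := φ.toAlgebra
    letI := ((Nice.chart hY hP p).S.u.comp φ).toAlgebra
    letI := ((Nice.chart hY hP p).S.v.comp φ).toAlgebra
    Function.Injective (((Nice.chart hY hP p).S.pairₗ (R := R) rfl rfl).rTensor R')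

/-- **Base change of a pushout along a closed immersion.** -/
theorem isPushout_baseChange (hY : ∀ y : Y, ∃ p : Nice i j, y ∈ p.V) (hP : IsPushout i j a b)
    {S T PT XT YT ZT : Scheme.{u}} (sP : P ⟶ S) (g : T ⟶ S) (hinj : BCInj hY hP sP g)
    (pP : PT ⟶ P) (sPT : PT ⟶ T) (hPT : IsPullback pP sPT sP g)
    (pX : XT ⟶ X) (qT : XT ⟶ PT) (hXT : IsPullback pX qT a pP)
    (pY : YT ⟶ Y) (jT : YT ⟶ PT) (hYT : IsPullback pY jT b pP)
    (pZ : ZT ⟶ Z) (iT : ZT ⟶ XT) (hZT : IsPullback pZ iT i pX)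
    (hT : ZT ⟶ YT) (hhT₁ : hT ≫ pY = pZ ≫ j) (hhT₂ : hT ≫ jT = iT ≫ qT) :
    IsPushout iT hT qT jT := by
  refine isPushout_of_charts hhT₂.symm fun w => ?_
  obtain ⟨S₀, hS₀, hwS, -⟩ := exists_isAffineOpen_mem_and_subset (X := S) (x := sP (pP w)) (U := ⊤) trivial
  obtain ⟨T₀, hT₀, hwT, hTS⟩ := exists_isAffineOpen_mem_and_subset (X := T) (x := sPT w) (U := g ⁻¹ᵁ S₀) (by
    show g (sPT w) ∈ S₀
    have := congrArg (fun m : PT ⟶ S => m w) hPT.w
    simp only [Scheme.Hom.comp_apply] at this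
    rw [← this]; exact hwS)
  obtain ⟨p, hpw, hp⟩ := exists_chart_le hY hP (pP w) (sP ⁻¹ᵁ S₀) hwS
  let C := Nice.chart hY hP p
  obtain ⟨l, hl⟩ : ∃ l, l ≫ hS₀.fromSpec = C.κ ≫ sP := ⟨_, IsOpenImmersion.lift_fac _ _ (by
    rw [hS₀.range_fromSpec]; rintro _ ⟨z, rfl⟩; exact hp ⟨z, rfl⟩)⟩
  obtain ⟨φ, rfl⟩ := Spec.map_surjective l
  letI := φ.hom.toAlgebra
  letI := (C.S.u.comp φ.hom).toAlgebra
  letI := (C.S.v.comp φ.hom).toAlgebra
  letI := (C.S.q.comp (C.S.u.comp φ.hom)).toAlgebra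
  letI := (g.appLE S₀ T₀ hTS).hom.toAlgebra
  have hκT : hT₀.fromSpec ≫ g = specMap (algebraMap Γ(S, S₀) Γ(T, T₀)) ≫ hS₀.fromSpec :=
    (hS₀.SpecMap_appLE_fromSpec g hT₀ hTS).symm
  obtain ⟨D, hD⟩ := exists_bcChart C (R := Γ(S, S₀)) (R' := Γ(T, T₀)) rfl rfl rfl
    (hinj p Γ(S, S₀) Γ(T, T₀) φ.hom hS₀.fromSpec hT₀.fromSpec inferInstance inferInstance hl.symm hκT)
    sP g pP sPT hPT hS₀.fromSpec hT₀.fromSpec hl.symm hκT pX qT hXT pY jT hYT pZ iT hZT hT hhT₁ hhT₂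
  exact ⟨D, hD w hpw (by rw [hT₀.range_fromSpec]; exact hwT)⟩

theorem flat_of_specMap_comp {R Q : Type u} [CommRing R] [CommRing Q] {S : Scheme.{u}} (φ : R →+* Q)
    (κS : Spec (.of R) ⟶ S) [IsOpenImmersion κS] (h : Flat (specMap φ ≫ κS)) : φ.Flat := by
  have h1 : Flat (specMap φ) := MorphismProperty.of_postcomp (W' := @IsOpenImmersion) _ (specMap φ) κS inferInstance h
  exact (HasRingHomProperty.Spec_iff (P := @Flat)).1 h1

theorem bcInj_of_flat (hY : ∀ y : Y, ∃ p : Nice i j, y ∈ p.V) (hP : IsPushout i j a b) {S T : Scheme.{u}}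
    (sP : P ⟶ S) (g : T ⟶ S) [Flat g] : BCInj hY hP sP g := by
  intro p R R' _ _ _ φ κS κT hS hT _ h
  letI := φ.toAlgebra
  letI := ((Nice.chart hY hP p).S.u.comp φ).toAlgebra
  letI := ((Nice.chart hY hP p).S.v.comp φ).toAlgebra
  letI := ((Nice.chart hY hP p).S.q.comp ((Nice.chart hY hP p).S.u.comp φ)).toAlgebra
  haveI : Module.Flat R R' := by
    have := flat_of_specMap_comp (algebraMap R R') κS (by rw [← h]; infer_instance)
    exact RingHom.flat_algebraMap_iff.1 this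
  exact FibSq.pairTensor_injective_of_flat _ _ _ _

theorem bcInj_of_flat_middle (hY : ∀ y : Y, ∃ p : Nice i j, y ∈ p.V) (hP : IsPushout i j a b) {S T : Scheme.{u}}
    (sP : P ⟶ S) (g : T ⟶ S) [Flat ((i ≫ a) ≫ sP)] : BCInj hY hP sP g := by
  intro p R R' _ _ _ φ κS κT hS hT h _
  let C := Nice.chart hY hP p
  letI := φ.toAlgebra
  letI := (C.S.u.comp φ).toAlgebra
  letI := (C.S.v.comp φ).toAlgebra
  letI := (C.S.q.comp (C.S.u.comp φ)).toAlgebra
  haveI : IsOpenImmersion C.κZ := (p.hU.preimage i).isOpenImmersion_fromSpec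
  haveI : Module.Flat R C.A := by
    refine RingHom.flat_algebraMap_iff.1 (flat_of_specMap_comp _ κS ?_)
    have e : specMap (C.S.q.comp (C.S.u.comp φ)) ≫ κS = C.κZ ≫ (i ≫ a) ≫ sP := by
      rw [show specMap (C.S.q.comp (C.S.u.comp φ)) = (specMap C.S.q ≫ specMap C.S.u) ≫ specMap φ by
        rw [Category.assoc, ← Spec.map_comp, ← Spec.map_comp]; rfl]
      rw [Category.assoc, ← h, C.S.spec_w, Category.assoc, ← Category.assoc (specMap C.S.v), C.pbX.w,
        Category.assoc C.κX, ← Category.assoc (specMap C.S.p), C.hp, Category.assoc, Category.assoc]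
    rw [RingHom.algebraMap_toAlgebra, e]
    infer_instance
  exact FibSq.pairTensor_injective_of_flat_A C.S rfl rfl rfl R'

theorem flat_of_flat (hY : ∀ y : Y, ∃ p : Nice i j, y ∈ p.V) (hP : IsPushout i j a b) {S : Scheme.{u}}
    (sP : P ⟶ S) [Flat (a ≫ sP)] [Flat (b ≫ sP)] [Flat ((i ≫ a) ≫ sP)] : Flat sP := by
  have hpt : ∀ w : P, ∃ p : Nice i j, w ∈ Set.range (Nice.chart hY hP p).κ ∧ Flat ((Nice.chart hY hP p).κ ≫ sP) := fun w => by
    obtain ⟨S₀, hS₀, hw, -⟩ := exists_isAffineOpen_mem_and_subset (X := S) (x := sP w) (U := ⊤) trivial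
    obtain ⟨p, hwp, hp⟩ := exists_chart_le hY hP w (sP ⁻¹ᵁ S₀) hw
    let C := Nice.chart hY hP p
    obtain ⟨l, hl⟩ : ∃ l, l ≫ hS₀.fromSpec = C.κ ≫ sP := ⟨_, IsOpenImmersion.lift_fac _ _ (by
      rw [hS₀.range_fromSpec]; rintro _ ⟨z, rfl⟩; exact hp ⟨z, rfl⟩)⟩
    obtain ⟨φ, rfl⟩ := Spec.map_surjective l
    refine ⟨p, hwp, ?_⟩
    show Flat (C.κ ≫ sP)
    rw [← hl]
    suffices Flat (Spec.map φ) by infer_instance
    rw [HasRingHomProperty.Spec_iff (P := @Flat)]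
    letI := φ.hom.toAlgebra
    letI := (C.S.u.comp φ.hom).toAlgebra
    letI := (C.S.v.comp φ.hom).toAlgebra
    letI := (C.S.q.comp (C.S.u.comp φ.hom)).toAlgebra
    haveI : IsOpenImmersion C.κZ := (p.hU.preimage i).isOpenImmersion_fromSpec
    haveI : IsOpenImmersion C.κX := p.hU.isOpenImmersion_fromSpec
    haveI : IsOpenImmersion C.κY := p.hV.isOpenImmersion_fromSpec
    have eA' : specMap (C.S.v.comp φ.hom) ≫ hS₀.fromSpec = C.κX ≫ a ≫ sP := by
      rw [show specMap (C.S.v.comp φ.hom) = specMap C.S.v ≫ Spec.map φ by rw [← Spec.map_comp]; rfl]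
      rw [Category.assoc, hl, ← Category.assoc, C.pbX.w, Category.assoc]
    have eB : specMap (C.S.u.comp φ.hom) ≫ hS₀.fromSpec = C.κY ≫ b ≫ sP := by
      rw [show specMap (C.S.u.comp φ.hom) = specMap C.S.u ≫ Spec.map φ by rw [← Spec.map_comp]; rfl]
      rw [Category.assoc, hl, ← Category.assoc, C.pbY.w, Category.assoc]
    have eA : specMap (C.S.q.comp (C.S.u.comp φ.hom)) ≫ hS₀.fromSpec = C.κZ ≫ (i ≫ a) ≫ sP := by
      rw [show specMap (C.S.q.comp (C.S.u.comp φ.hom)) = (specMap C.S.q ≫ specMap C.S.u) ≫ Spec.map φ by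
        rw [Category.assoc, ← Spec.map_comp, ← Spec.map_comp]; rfl]
      rw [Category.assoc, hl, C.S.spec_w, Category.assoc, ← Category.assoc (specMap C.S.v), C.pbX.w,
        Category.assoc C.κX, ← Category.assoc (specMap C.S.p), C.hp, Category.assoc, Category.assoc]
    haveI : Module.Flat Γ(S, S₀) C.A' := RingHom.flat_algebraMap_iff.1
      (flat_of_specMap_comp _ hS₀.fromSpec (by rw [RingHom.algebraMap_toAlgebra, eA']; infer_instance))
    haveI : Module.Flat Γ(S, S₀) C.B := RingHom.flat_algebraMap_iff.1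
      (flat_of_specMap_comp _ hS₀.fromSpec (by rw [RingHom.algebraMap_toAlgebra, eB]; infer_instance))
    haveI : Module.Flat Γ(S, S₀) C.A := RingHom.flat_algebraMap_iff.1
      (flat_of_specMap_comp _ hS₀.fromSpec (by rw [RingHom.algebraMap_toAlgebra, eA]; infer_instance))
    exact RingHom.flat_algebraMap_iff.2 (FibSq.flat (R := Γ(S, S₀)) C.S rfl rfl rfl)
  choose p hp hl using hpt
  let 𝒰 : P.OpenCover := Scheme.Cover.mkOfCovers P (fun w => Spec (.of (Nice.chart hY hP (p w)).Q'))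
    (fun w => (Nice.chart hY hP (p w)).κ) (fun w => ⟨w, hp w⟩) (fun w => (Nice.chart hY hP (p w)).openκ)
  exact IsZariskiLocalAtSource.of_openCover (P := @Flat) 𝒰 fun w => hl w

end Groth.Agent.PushLib
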