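import Mathlib
import Groth.Agent.PushLib.BCScheme

/-!
# Base change along chosen pullbacks
-/

set_option autoImplicit false
universe u

open CategoryTheory AlgebraicGeometry Limits

namespace Groth.Agent.PushLib

variable {Z X Y P S T : Scheme.{u}} {i : Z ⟶ X} {j : Z ⟶ Y} {a : X ⟶ P} {b : Y ⟶ P} [IsClosedImmersion i]

theorem isPullback_pullback_map {A B : Scheme.{u}} (h : A ⟶ B) (sA : A ⟶ S) (sB : B ⟶ S) (g : T ⟶ S)
    (e : h ≫ sB = sA) :
    IsPullback (pullback.fst sA g) (pullback.map sA g sB g h (𝟙 T) (𝟙 S) (by simp [e]) (by simp)) h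
      (pullback.fst sB g) := by
  refine IsPullback.of_bot ?_ ?_ (IsPullback.of_hasPullback sB g)
  · have e1 : pullback.map sA g sB g h (𝟙 T) (𝟙 S) (by simp [e]) (by simp) ≫ pullback.snd sB g = pullback.snd sA g := by
      exact (pullback.lift_snd _ _ _).trans (Category.comp_id _)
    rw [e1, e]
    exact IsPullback.of_hasPullback sA g
  · exact (pullback.lift_fst _ _ _).symm

/-- base change in the form of chosen pullbacks -/
theorem isPushout_pullback_map (hY : ∀ y : Y, ∃ p : Nice i j, y ∈ p.V) (hP : IsPushout i j a b)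
    (sP : P ⟶ S) (g : T ⟶ S) (hinj : BCInj hY hP sP g) (sZ : Z ⟶ S) (sX : X ⟶ S) (sY : Y ⟶ S)
    (hi : i ≫ sX = sZ) (hj : j ≫ sY = sZ) (ha : a ≫ sP = sX) (hb : b ≫ sP = sY) :
    IsPushout (pullback.map sZ g sX g i (𝟙 T) (𝟙 S) (by simp [hi]) (by simp))
      (pullback.map sZ g sY g j (𝟙 T) (𝟙 S) (by simp [hj]) (by simp))
      (pullback.map sX g sP g a (𝟙 T) (𝟙 S) (by simp [ha]) (by simp))
      (pullback.map sY g sP g b (𝟙 T) (𝟙 S) (by simp [hb]) (by simp)) := by
  refine isPushout_baseChange hY hP sP g hinj _ _ (IsPullback.of_hasPullback sP g) _ _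
    (isPullback_pullback_map a sX sP g ha) _ _ (isPullback_pullback_map b sY sP g hb) _ _
    (isPullback_pullback_map i sZ sX g hi) _ ?_ ?_
  · exact pullback.lift_fst _ _ _
  · apply pullback.hom_ext
    · simp only [pullback.map, Category.assoc, pullback.lift_fst, pullback.lift_fst_assoc]
      rw [hP.w]
    · simp only [pullback.map, Category.assoc, pullback.lift_snd, pullback.lift_snd_assoc, Category.comp_id]

end Groth.Agent.PushLib
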